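import Cfsg.Agent.Mrg.Omega.ThmC.FourMain
import Cfsg.Agent.Mrg.Omega.ThmC.TwoData


/-!
# THEOREM C with `D`, case `q ≥ 4`, (4), (5): supports of size 1, the count (helper399 #19922, helper914 #20115,
helper653 #19789)

`Fam ρ S h Z p WW` : `WW i` (`i : Fin k`) are 2-subgroups of `N`, permuted by `S` like the `Z i`, normalised by the
`h l`; an element of `WW i` which commutes with the `h l` and is trivial on the `C_l` for all `l ≠ a` normalises all
`WW c`, `c ≠ a`.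

* `Fam.bot` : `WW i = ⊥` for all `i`.
-/

set_option autoImplicit false
set_option linter.unusedSectionVars false
set_option linter.unusedVariables false

namespace Cfsg.Agent.Omega.IId.ThmCQ

open Subgroup Cfsg Cfsg.Agent.Omega.ThmC.Four Cfsg.Agent.MinSimple.VModule
open Cfsg.Agent.ZN (o2)
open Cfsg.Agent.Omega.ThmC.Four.Abs (Perm Perm.mul conj_eps pow_fix conj_eps_apply sq_apply fix_im exists_conj_le
  card_map_conj stabC mem_stabC inv_apply inv_apply' range_eq pair_mem_DD)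
open Cfsg.Agent.Omega.IId.ThmCD (levels nor_o2 le_sylow_of_normalized card_le_sylow)

universe u

section gen

variable {N A : Type u} [Group N] [AddCommGroup A] (ρ : N →* AddMonoid.End A) {k : ℕ} (Z : Fin k → AddSubgroup A)

/-- `n` maps `Z i` onto `Z j`. -/
def MapZ (n : N) (i j : Fin k) : Prop := ∀ a, a ∈ Z i ↔ ρ n a ∈ Z j

variable {ρ Z}

theorem rho_inv (n : N) (a : A) : ρ n (ρ n⁻¹ a) = a := by
  rw [← rho_mul, mul_inv_cancel, rho_one]

theorem rho_inv' (n : N) (a : A) : ρ n⁻¹ (ρ n a) = a := by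
  rw [← rho_mul, inv_mul_cancel, rho_one]

theorem rho_inj {n : N} {a b : A} (h : ρ n a = ρ n b) : a = b := by
  rw [← rho_inv' (ρ := ρ) n a, h, rho_inv']

theorem MapZ.inv {n : N} {i j : Fin k} (h : MapZ ρ Z n i j) : MapZ ρ Z n⁻¹ j i := by
  intro a
  rw [h, rho_inv]

theorem MapZ.mul {m n : N} {i j l : Fin k} (h : MapZ ρ Z n i j) (h' : MapZ ρ Z m j l) : MapZ ρ Z (m * n) i l := by
  intro a
  rw [h, h', rho_mul]

theorem MapZ.one (i : Fin k) : MapZ ρ Z 1 i i := by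
  intro a
  rw [rho_one]

theorem nor_conj {s x : N} {X Y : Subgroup N} (h : ∀ w, w ∈ X ↔ s * w * s⁻¹ ∈ Y) (hx : x ∈ normalizer (X : Set N)) :
    s * x * s⁻¹ ∈ normalizer (Y : Set N) := by
  rw [mem_normalizer_iff] at hx ⊢
  intro y
  have h1 : y ∈ Y ↔ s⁻¹ * y * s ∈ X := by
    rw [h]
    have e : s * (s⁻¹ * y * s) * s⁻¹ = y := by group
    rw [e]
  rw [h1, hx, h]
  have e : s * (x * (s⁻¹ * y * s) * x⁻¹) * s⁻¹ = s * x * s⁻¹ * y * (s * x * s⁻¹)⁻¹ := by group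
  rw [e]

theorem card_mul_le [Finite N] {X Y Z : Subgroup N} (hX : X ≤ Z) (hY : Y ≤ Z) (hXY : X ⊓ Y = ⊥) :
    Nat.card X * Nat.card Y ≤ Nat.card Z := by
  have h1 : Function.Injective fun g : X × Y => (g.1 : N) * g.2 := mul_injective_of_disjoint (disjoint_iff.2 hXY)
  rw [← Nat.card_prod]
  refine Nat.card_le_card_of_injective (fun g : X × Y => (⟨(g.1 : N) * g.2, mul_mem (hX g.1.2) (hY g.2.2)⟩ : Z)) ?_
  intro a b hab
  exact h1 (congrArg Subtype.val hab)

end gen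

namespace AbsD

variable {N A : Type u} [Group N] [Finite N] [AddCommGroup A] [Finite A] {ρ : N →* AddMonoid.End A}
  {S : Sylow 2 N} {k : ℕ} {h : Fin k → N} {Z : Fin k → AddSubgroup A} {p : ℕ}

theorem Z_disj (d : AbsD ρ S h Z p) {i j : Fin k} (hij : i ≠ j) {a : A} (hi : a ∈ Z i) (hj : a ∈ Z j) : a = 0 :=
  d.Zfpf i a hi (d.Zcent j i hij.symm a hj)

theorem exists_Z (d : AbsD ρ S h Z p) (i : Fin k) : ∃ a ∈ Z i, a ≠ 0 := by
  obtain ⟨a, ha⟩ := AddSubgroup.ne_bot_iff_exists_ne_zero.1 (d.Zne i)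
  exact ⟨a, a.2, fun h => ha (Subtype.ext h)⟩

theorem map_unique (d : AbsD ρ S h Z p) {n : N} {i j j' : Fin k} (h1 : MapZ ρ Z n i j) (h2 : MapZ ρ Z n i j') :
    j = j' := by
  by_contra hne
  obtain ⟨a, ha, ha0⟩ := d.exists_Z i
  have h3 := d.Z_disj hne ((h1 a).1 ha) ((h2 a).1 ha)
  exact ha0 (rho_inj (ρ := ρ) (n := n) (by rw [h3, map_zero]))

theorem perm_of_map (d : AbsD ρ S h Z p) {s : N} {σ : Equiv.Perm (Fin k)} (hs : Perm h s σ) {i j : Fin k}
    (hm : MapZ ρ Z s i j) : σ i = j := by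
  by_contra hne
  obtain ⟨a, ha, ha0⟩ := d.exists_Z i
  apply ha0
  refine d.Zfpf i a ha ?_
  obtain ⟨r, hr⟩ := hs i
  have h1 : ρ (h (σ i) ^ r) (ρ s a) = ρ s a :=
    pow_fix (d.Zcent j (σ i) (Ne.symm hne) _ ((hm a).1 ha)) ⟨r, zpow_natCast _ _⟩
  rw [← hr, ← rho_mul, inv_mul_cancel_right, rho_mul] at h1
  exact rho_inj h1

/-- an element of `S` in a `D^`-invariant 2-group which normalises all `⟨h l⟩` is trivial -/
theorem eq_one_of_S (d : AbsD ρ S h Z p) {X : Subgroup N} (hX : IsPGroup 2 X) (hh : ∀ l, h l ∈ normalizer (X : Set N))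
    {w : N} (hwS : w ∈ (S : Subgroup N)) (hw : w ∈ X) (hr' : ∀ l, ∃ r : ℕ, w * h l * w⁻¹ = h l ^ r) : w = 1 := by
  refine d.field w hwS fun l => ?_
  obtain ⟨r, hr⟩ := hr' l
  have h1 : w * (h l * w⁻¹ * (h l)⁻¹) ∈ X :=
    mul_mem hw ((mem_normalizer_iff.1 (hh l) w⁻¹).1 (inv_mem hw))
  have h2 : w * (h l * w⁻¹ * (h l)⁻¹) = h l ^ r * (h l)⁻¹ := by rw [← hr]; group
  have h3 : (w * (h l * w⁻¹ * (h l)⁻¹)) ^ p = 1 := by
    rw [h2]
    exact d.DD_pow _ (mul_mem (pow_mem (h_mem_DD h l) r) (inv_mem (h_mem_DD h l)))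
  have h4 : w * (h l * w⁻¹ * (h l)⁻¹) = 1 := by
    obtain ⟨n, hn⟩ := hX ⟨_, h1⟩
    have h5 : (w * (h l * w⁻¹ * (h l)⁻¹)) ^ 2 ^ n = 1 := congrArg Subtype.val hn
    have h6 : orderOf (w * (h l * w⁻¹ * (h l)⁻¹)) ∣ Nat.gcd p (2 ^ n) :=
      Nat.dvd_gcd (orderOf_dvd_of_pow_eq_one h3) (orderOf_dvd_of_pow_eq_one h5)
    have h7 : Nat.Coprime p (2 ^ n) :=
      Nat.Coprime.pow_right n ((Nat.coprime_primes d.prime Nat.prime_two).2 d.odd)
    rw [h7.gcd_eq_one] at h6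
    exact orderOf_eq_one_iff.1 (Nat.dvd_one.1 h6)
  calc w * h l = w * (h l * w⁻¹ * (h l)⁻¹) * h l * w := by group
    _ = h l * w := by rw [h4, one_mul]

end AbsD

/-- The family `WW i`. -/
structure Fam {N A : Type u} [Group N] [Finite N] [AddCommGroup A] [Finite A] (ρ : N →* AddMonoid.End A)
    (S : Sylow 2 N) {k : ℕ} (h : Fin k → N) (Z : Fin k → AddSubgroup A) (p : ℕ) (WW : Fin k → Subgroup N) : Prop where
  d : AbsD ρ S h Z p
  two : ∀ i, IsPGroup 2 (WW i)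
  zperm : ∀ s ∈ (S : Subgroup N), ∀ i, ∃ j, MapZ ρ Z s i j
  trans : ∀ i j, ∃ s ∈ (S : Subgroup N), MapZ ρ Z s i j
  conj : ∀ s ∈ (S : Subgroup N), ∀ i j, MapZ ρ Z s i j → ∀ w, w ∈ WW i ↔ s * w * s⁻¹ ∈ WW j
  hn : ∀ l i, h l ∈ normalizer (WW i : Set N)
  norm : ∀ i a, ∀ u ∈ WW i, (∀ l, l ≠ a → u * h l = h l * u) →
    (∀ l, l ≠ a → ∀ x, ρ u (eps ρ h l x) = eps ρ h l x) → ∀ c, c ≠ a → u ∈ normalizer (WW c : Set N)

namespace Fam

variable {N A : Type u} [Group N] [Finite N] [AddCommGroup A] [Finite A] {ρ : N →* AddMonoid.End A}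
  {S : Sylow 2 N} {k : ℕ} {h : Fin k → N} {Z : Fin k → AddSubgroup A} {p : ℕ} {WW : Fin k → Subgroup N}
  (F : Fam ρ S h Z p WW)

/-- `U_a^i` -/
def U (_ : Fam ρ S h Z p WW) (i a : Fin k) : Subgroup N := WW i ⊓ centralizer (h '' {a}ᶜ)

include F

theorem mem_U {i a : Fin k} {u : N} : u ∈ F.U i a ↔ u ∈ WW i ∧ ∀ l, l ≠ a → u * h l = h l * u := by
  rw [U, mem_inf, mem_centralizer_iff]
  refine and_congr_right fun _ => ⟨fun h1 l hl => (h1 _ ⟨l, hl, rfl⟩).symm, ?_⟩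
  rintro h1 _ ⟨l, hl, rfl⟩
  exact (h1 l hl).symm

/-- the elements of `S` which normalise all `⟨h l⟩` normalise the `WW i` -/
theorem S_norm {s : N} (hs : s ∈ (S : Subgroup N)) {i : Fin k} (hr : ∀ l, ∃ r : ℕ, s * h l * s⁻¹ = h l ^ r) :
    s ∈ normalizer (WW i : Set N) := by
  obtain ⟨j, hj⟩ := F.zperm s hs i
  have h1 : (1 : Equiv.Perm (Fin k)) i = j := F.d.perm_of_map (σ := 1) hr hj
  rw [← h1] at hj
  rw [mem_normalizer_iff]
  exact F.conj s hs i _ hj

/-- `C_{WW i}(D^) = 1` -/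
theorem hfix {i : Fin k} : ∀ w ∈ WW i, (∀ l, w * h l = h l * w) → w = 1 := fun _ hw hc =>
  F.d.eq_one_of_eps (F.two i) (fun l => F.hn l i) (fun _ hs hr => F.S_norm hs hr) hw fun l => F.d.commute_eps (hc l)

theorem conj_U {i a : Fin k} {u : N} (hu : u ∈ F.U i a) : h a * u * (h a)⁻¹ ∈ F.U i a := by
  rw [mem_U] at hu ⊢
  refine ⟨(mem_normalizer_iff.1 (F.hn a i) u).1 hu.1, fun l hl => ?_⟩
  have h1 := hu.2 l hl
  have h2 := F.d.hcomm a l
  have h3 : (h a)⁻¹ * h l = h l * (h a)⁻¹ := by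
    rw [inv_mul_eq_iff_eq_mul, ← mul_assoc, h2, mul_inv_cancel_right]
  calc h a * u * (h a)⁻¹ * h l = h a * u * ((h a)⁻¹ * h l) := by group
    _ = h a * (u * h l) * (h a)⁻¹ := by rw [h3]; group
    _ = (h a * h l) * u * (h a)⁻¹ := by rw [h1]; group
    _ = h l * (h a * u * (h a)⁻¹) := by rw [h2]; group

/-- `U = [U, h a]` -/
theorem exists_comm {i a : Fin k} {u : N} (hu : u ∈ F.U i a) : ∃ v ∈ F.U i a, v * (h a * v⁻¹ * (h a)⁻¹) = u := by
  let f : F.U i a → F.U i a := fun v => ⟨v * (h a * (v : N)⁻¹ * (h a)⁻¹), mul_mem v.2 (F.conj_U (inv_mem v.2))⟩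
  have hf : Function.Injective f := by
    intro v v' hv
    have h1 : (v : N) * (h a * (v : N)⁻¹ * (h a)⁻¹) = v' * (h a * (v' : N)⁻¹ * (h a)⁻¹) := congrArg Subtype.val hv
    have h2 : (v' : N)⁻¹ * v ∈ F.U i a := mul_mem (inv_mem v'.2) v.2
    have h4 : (v : N) * h a * (v : N)⁻¹ = v' * h a * (v' : N)⁻¹ := by
      have h5 : (v : N) * h a * (v : N)⁻¹ * (h a)⁻¹ = v' * h a * (v' : N)⁻¹ * (h a)⁻¹ := by
        simpa only [mul_assoc] using h1
      exact mul_right_cancel h5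
    have h3 : (v' : N)⁻¹ * v * h a = h a * ((v' : N)⁻¹ * v) := by
      calc (v' : N)⁻¹ * v * h a = (v' : N)⁻¹ * (v * h a * (v : N)⁻¹) * v := by group
        _ = (v' : N)⁻¹ * (v' * h a * (v' : N)⁻¹) * v := by rw [h4]
        _ = h a * ((v' : N)⁻¹ * v) := by group
    have h5 : (v' : N)⁻¹ * v = 1 := by
      refine F.hfix _ (F.mem_U.1 h2).1 fun l => ?_
      by_cases hl : l = a
      · rw [hl]; exact h3
      · exact (F.mem_U.1 h2).2 l hl
    apply Subtype.ext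
    rw [inv_mul_eq_one] at h5
    exact h5.symm
  obtain ⟨v, hv⟩ := Finite.surjective_of_injective hf ⟨u, hu⟩
  exact ⟨v, v.2, congrArg Subtype.val hv⟩

/-- `U_a^i` is trivial on `C_c`, `c ≠ a` -/
theorem U_triv {i a c : Fin k} (hc : c ≠ a) {u : N} (hu : u ∈ F.U i a) (x : A) :
    ρ u (eps ρ h c x) = eps ρ h c x := by
  obtain ⟨v, hv, rfl⟩ := F.exists_comm hu
  have h1 : ∀ y, ρ (h a) (eps ρ h c y) = eps ρ h c y := fun y => F.d.h_eps_apply hc.symm (F.d.idem_apply c y)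
  have h2 : ρ v⁻¹ (eps ρ h c x) = eps ρ h c (ρ v⁻¹ x) :=
    F.d.commute_eps_apply ((F.mem_U.1 (inv_mem hv)).2 c hc) x
  rw [rho_mul, rho_mul, rho_mul, inv_apply (h1 x), h2, h1, ← h2, rho_inv]

/-- `U_a^i` normalises `WW c`, `c ≠ a` -/
theorem U_norm {i a c : Fin k} (hc : c ≠ a) : F.U i a ≤ normalizer (WW c : Set N) := fun u hu =>
  F.norm i a u (F.mem_U.1 hu).1 (F.mem_U.1 hu).2 (fun l hl x => F.U_triv hl hu x) c hc

theorem U_conj {s : N} (hs : s ∈ (S : Subgroup N)) {i j a b : Fin k} (hi : MapZ ρ Z s i j) (ha : MapZ ρ Z s a b)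
    {u : N} (hu : u ∈ F.U i a) : s * u * s⁻¹ ∈ F.U j b := by
  rw [mem_U] at hu ⊢
  refine ⟨(F.conj s hs i j hi u).1 hu.1, fun m hm => ?_⟩
  obtain ⟨τ, hτ⟩ := F.d.perm s⁻¹ (inv_mem hs)
  have h1 : τ b = a := F.d.perm_of_map hτ ha.inv
  have h2 : τ m ≠ a := fun h => hm (τ.injective (h.trans h1.symm))
  obtain ⟨r, hr⟩ := hτ m
  rw [inv_inv] at hr
  have h3 : u * h (τ m) ^ r = h (τ m) ^ r * u := (show Commute u (h (τ m)) from hu.2 _ h2).pow_right r
  rw [← hr] at h3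
  calc s * u * s⁻¹ * h m = s * (u * (s⁻¹ * h m * s)) * s⁻¹ := by group
    _ = s * (s⁻¹ * h m * s * u) * s⁻¹ := by rw [h3]
    _ = h m * (s * u * s⁻¹) := by group

theorem U_two {i a : Fin k} : IsPGroup 2 (F.U i a) := (F.two i).to_le inf_le_left

/-- `|U_a^i| ≥ 4` -/
theorem four_le {i a : Fin k} (hne : F.U i a ≠ ⊥) : 4 ≤ Nat.card (F.U i a) := by
  have : Fact (Nat.Prime 2) := ⟨Nat.prime_two⟩
  obtain ⟨n, hn⟩ := IsPGroup.iff_card.1 (F.U_two (i := i) (a := a))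
  obtain ⟨w, hw, hw1⟩ := (Subgroup.bot_or_exists_ne_one _).resolve_left hne
  have h2 : 2 ≤ n := by
    by_contra hcon
    have h3 : n = 0 ∨ n = 1 := by omega
    rcases h3 with rfl | rfl
    · rw [pow_zero, Subgroup.card_eq_one] at hn
      exact hne hn
    · rw [pow_one] at hn
      apply hw1
      refine F.hfix w (F.mem_U.1 hw).1 fun l => ?_
      by_cases hl : l = a
      · subst hl
        have h4 : (⟨h l * w * (h l)⁻¹, F.conj_U hw⟩ : F.U i l) = ⟨w, hw⟩ := by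
          obtain ⟨y, -, hy⟩ := (Nat.card_eq_two_iff' (1 : F.U i l)).1 hn
          rw [hy ⟨w, hw⟩ fun h => hw1 (congrArg Subtype.val h)]
          refine hy _ fun hy1 => hw1 ?_
          have h5 : h l * w * (h l)⁻¹ = 1 := congrArg Subtype.val hy1
          rw [conj_eq_one_iff] at h5
          exact h5
        have h5 : h l * w * (h l)⁻¹ = w := congrArg Subtype.val h4
        calc w * h l = (h l * w * (h l)⁻¹) * h l := by rw [h5]
          _ = h l * w := by group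
      · exact (F.mem_U.1 hw).2 l hl
  calc 4 = 2 ^ 2 := by norm_num
    _ ≤ 2 ^ n := Nat.pow_le_pow_right (by norm_num) h2
    _ = Nat.card (F.U i a) := hn.symm

/-! ### The normalisers -/

omit F in
/-- the intersection of the normalisers of the `WW c`, `c ∈ Γ` -/
def KK (WW : Fin k → Subgroup N) (Γ : Set (Fin k)) : Subgroup N := ⨅ c : Γ, normalizer (WW c : Set N)

omit F [Finite N] in
theorem mem_KK {Γ : Set (Fin k)} {x : N} : x ∈ KK WW Γ ↔ ∀ c ∈ Γ, x ∈ normalizer (WW c : Set N) := by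
  rw [KK, mem_iInf]
  exact ⟨fun h c hc => h ⟨c, hc⟩, fun h c => h c c.2⟩

theorem U_le {Γ : Set (Fin k)} {i a : Fin k} (hi : i ∈ Γ) (ha : ∀ c ∈ Γ, c ≠ i → c ≠ a) :
    F.U i a ≤ o2 (KK WW Γ) := by
  have h1 : WW i ⊓ KK WW Γ ≤ o2 (KK WW Γ) := by
    refine le_o2 inf_le_right ((F.two i).to_le inf_le_left) fun x hx => ?_
    exact ThmCD.nor_inf (mem_KK.1 hx i hi) (le_normalizer hx)
  refine le_trans (le_inf inf_le_left fun u hu => mem_KK.2 fun c hc => ?_) h1
  by_cases hci : c = i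
  · rw [hci]
    exact le_normalizer (F.mem_U.1 hu).1
  · exact F.U_norm (ha c hc hci) hu

theorem h_mem_KK (Γ : Set (Fin k)) (l : Fin k) : h l ∈ KK WW Γ := mem_KK.2 fun c _ => F.hn l c

/-- **The diagonal** `U_i^i = 1`. -/
theorem U_diag (i : Fin k) : F.U i i = ⊥ := by
  rw [eq_bot_iff]
  intro u hu
  rw [mem_bot]
  have hS : (S : Subgroup N) ≤ normalizer (KK WW Set.univ : Set N) := by
    have key : ∀ s ∈ (S : Subgroup N), ∀ x ∈ KK WW Set.univ, s * x * s⁻¹ ∈ KK WW Set.univ := by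
      intro s hs x hx
      refine mem_KK.2 fun c _ => ?_
      obtain ⟨j, hj⟩ := F.zperm s⁻¹ (inv_mem hs) c
      have hj' := hj.inv
      rw [inv_inv] at hj'
      exact nor_conj (F.conj s hs j c hj') (mem_KK.1 hx j (Set.mem_univ _))
    intro s hs
    rw [mem_normalizer_iff]
    intro x
    refine ⟨key s hs x, fun hx => ?_⟩
    have h1 := key s⁻¹ (inv_mem hs) _ hx
    have e : s⁻¹ * (s * x * s⁻¹) * s⁻¹⁻¹ = x := by group
    rwa [e] at h1
  have hRS : o2 (KK WW Set.univ) ≤ S := le_sylow_of_normalized S (o2_isPGroup _) fun s hs => nor_o2 (hS hs)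
  have huR : u ∈ o2 (KK WW Set.univ) := F.U_le (Set.mem_univ i) (fun c _ hc => hc) hu
  have huS := hRS huR
  refine F.d.eq_one_of_S (o2_isPGroup _) (fun l => le_normalizer_o2 _ (F.h_mem_KK _ l)) huS huR fun l => ?_
  obtain ⟨σ, hσ⟩ := F.d.perm u huS
  have h1 : ∀ l, l ≠ i → σ l = l := by
    intro l hl
    obtain ⟨j, hj⟩ := F.zperm u huS l
    have h2 : σ l = j := F.d.perm_of_map hσ hj
    obtain ⟨a, ha, ha0⟩ := F.d.exists_Z l
    have h3 : ρ u a = a := by
      have := F.U_triv hl hu a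
      rwa [F.d.eps_Z ha] at this
    have h4 := (hj a).1 ha
    rw [h3] at h4
    rw [h2]
    by_contra hne
    exact ha0 (F.d.Z_disj hne h4 ha)
  have h2 : σ i = i := by
    by_contra hne
    exact hne (σ.injective (h1 _ hne))
  have h3 : σ l = l := by
    by_cases hl : l = i
    · rw [hl]; exact h2
    · exact h1 l hl
  obtain ⟨r, hr⟩ := hσ l
  exact ⟨r, by rw [hr, h3]⟩

/-- **The count.** -/
theorem count_false {i a : Fin k} (hai : a ≠ i) (hne : F.U i a ≠ ⊥) : False := by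
  classical
  have : Fact (Nat.Prime 2) := ⟨Nat.prime_two⟩
  have d := F.d
  -- the action of `S` on `Fin k`
  choose f hf using fun (s : (S : Subgroup N)) (l : Fin k) => F.zperm s s.2 l
  let act : MulAction (S : Subgroup N) (Fin k) :=
    { smul := f
      one_smul := fun l => d.map_unique (hf 1 l) (MapZ.one l)
      mul_smul := fun s t l => d.map_unique (hf (s * t) l) ((hf t l).mul (hf s (f t l))) }
  have hz : ∀ (s : (S : Subgroup N)) (l : Fin k), MapZ ρ Z (s : N) l (s • l) := hf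
  have htr' : ∀ b c : Fin k, ∃ s : (S : Subgroup N), s • b = c := by
    intro b c
    obtain ⟨s, hs, e⟩ := F.trans b c
    exact ⟨⟨s, hs⟩, d.map_unique (hz ⟨s, hs⟩ b) e⟩
  obtain ⟨Γ, ⟨s₀, hs₀⟩, hΓ, hcard⟩ := levels S.2 htr' (o := i) (j := a) (j' := a) hai hai
  set JJ : Set (Fin k) := {b : Fin k | ∃ s : (S : Subgroup N), s • i ∈ Γ ∧ (b = s • a ∨ b = s • a)} with hJJ
  set R : Subgroup N := o2 (KK WW Γ) with hR
  let RT : Set (Fin k) → Subgroup N := fun T => R ⊓ centralizer (h '' Tᶜ)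
  have hRT : ∀ {T T' : Set (Fin k)}, T ⊆ T' → RT T ≤ RT T' := fun {T T'} h =>
    inf_le_inf_left _ (centralizer_le (Set.image_mono (Set.compl_subset_compl.2 h)))
  -- the conjugates of `U`
  have hU : ∀ s : (S : Subgroup N), s • i ∈ Γ → F.U (s • i) (s • a) ≤ R := fun s hs =>
    F.U_le hs fun c hc _ e => (hΓ s hs).1 (e ▸ hc)
  have hU1 : ∀ s : (S : Subgroup N), F.U (s • i) (s • a) ≠ ⊥ := by
    intro s hbot
    apply hne
    rw [eq_bot_iff]
    intro u hu
    have h1 := F.U_conj s.2 (hz s i) (hz s a) hu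
    rw [hbot, mem_bot, conj_eq_one_iff] at h1
    rw [h1]
    exact one_mem _
  -- the chain
  have hchain : ∀ T : Finset (Fin k), (∀ b ∈ T, b ∈ JJ) → 4 ^ T.card ≤ Nat.card (RT ↑T) := by
    intro T
    induction T using Finset.induction_on with
    | empty =>
      intro _
      rw [Finset.card_empty, pow_zero]
      exact Nat.card_pos
    | insert b T hb ih =>
      intro hT
      have h1 := ih fun c hc => hT c (Finset.mem_insert_of_mem hc)
      obtain ⟨s, hs, hbs⟩ := hT b (Finset.mem_insert_self b T)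
      have hbs' : b = s • a := by rcases hbs with h | h <;> exact h
      have h2 : F.U (s • i) (s • a) ≤ RT ↑(insert b T) := by
        refine le_inf (hU s hs) (inf_le_right.trans (centralizer_le (Set.image_mono ?_)))
        rw [Set.compl_subset_compl, Set.singleton_subset_iff, Finset.mem_coe, ← hbs']
        exact Finset.mem_insert_self b T
      have h3 : RT ↑T ≤ RT ↑(insert b T) := hRT (Finset.coe_subset.2 (Finset.subset_insert b T))
      have h4 : RT ↑T ⊓ F.U (s • i) (s • a) = ⊥ := by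
        rw [eq_bot_iff]
        rintro u ⟨⟨-, hu1⟩, hu2⟩
        rw [mem_bot]
        replace hu2 := F.mem_U.1 hu2
        refine F.hfix u hu2.1 fun l => ?_
        by_cases hl : l = s • a
        · refine (mem_centralizer_iff.1 hu1 (h l) ⟨l, ?_, rfl⟩).symm
          rw [hl, ← hbs', Set.mem_compl_iff, Finset.mem_coe]
          exact hb
        · exact hu2.2 l hl
      rw [Finset.card_insert_of_notMem hb, pow_succ]
      exact (Nat.mul_le_mul h1 (F.four_le (hU1 s))).trans (card_mul_le h3 h2 h4)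
  have h2k : 2 ^ k ≤ Nat.card R := by
    have hfin : JJ.Finite := Set.toFinite _
    have h1 := hchain hfin.toFinset fun b hb => hfin.mem_toFinset.1 hb
    have h2 : hfin.toFinset.card = JJ.ncard := (Set.ncard_eq_toFinset_card JJ hfin).symm
    have h3 : k ≤ 2 * hfin.toFinset.card := by
      rw [h2]
      have := hcard
      rwa [Nat.card_eq_fintype_card, Fintype.card_fin] at this
    calc 2 ^ k ≤ 2 ^ (2 * hfin.toFinset.card) := Nat.pow_le_pow_right (by norm_num) h3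
      _ = 4 ^ hfin.toFinset.card := by rw [pow_mul]; norm_num
      _ ≤ _ := h1
      _ ≤ Nat.card R := Subgroup.card_le_of_le inf_le_left
  -- the kernel
  set K₀ : Subgroup (S : Subgroup N) := (MulAction.toPermHom (S : Subgroup N) (Fin k)).ker with hK₀
  set S₀ : Subgroup N := K₀.map (S : Subgroup N).subtype with hS₀
  have hS₀' : ∀ s ∈ S₀, s ∈ (S : Subgroup N) ∧ ∀ l, MapZ ρ Z s l l := by
    rintro _ ⟨s, hs, rfl⟩
    refine ⟨s.2, fun l => ?_⟩
    have h1 : s • l = l := congrArg (fun σ : Equiv.Perm (Fin k) => σ l) hs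
    have h2 := hz s l
    rwa [h1] at h2
  have hpr : ∀ s ∈ S₀, ∀ l, ∃ r : ℕ, s * h l * s⁻¹ = h l ^ r := by
    intro s hs l
    obtain ⟨σ, hσ⟩ := d.perm s (hS₀' s hs).1
    obtain ⟨r, hr⟩ := hσ l
    exact ⟨r, by rw [hr, d.perm_of_map hσ ((hS₀' s hs).2 l)]⟩
  have hS₀K : S₀ ≤ normalizer (R : Set N) := by
    refine le_trans (fun s hs => ?_) (le_normalizer_o2 _)
    exact mem_KK.2 fun c _ => F.S_norm (hS₀' s hs).1 (hpr s hs)
  have hbot : S₀ ⊓ R = ⊥ := by
    rw [eq_bot_iff]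
    rintro s ⟨hs, hsR⟩
    rw [mem_bot]
    exact d.eq_one_of_S (o2_isPGroup _) (fun l => le_normalizer_o2 _ (F.h_mem_KK _ l)) (hS₀' s hs).1 hsR (hpr s hs)
  have hcS : Nat.card S₀ * Nat.card R ≤ Nat.card (S : Subgroup N) := by
    have h1 : IsPGroup 2 S₀ := S.2.to_le fun s hs => (hS₀' s hs).1
    have h6 : IsPGroup 2 ↥(S₀ ⊔ R) := h1.to_sup_of_normal_right' (o2_isPGroup _) hS₀K
    exact (card_mul_le le_sup_left le_sup_right hbot).trans (card_le_sylow S h6)
  have hcard₀ : Nat.card S₀ = Nat.card K₀ :=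
    Nat.card_congr (K₀.equivMapOfInjective _ (S : Subgroup N).subtype_injective).toEquiv.symm
  have hRle : Nat.card R ≤ K₀.index := by
    refine Nat.le_of_mul_le_mul_left ?_ (Nat.card_pos (α := K₀))
    rw [K₀.card_mul_index, ← hcard₀]
    exact hcS
  have hdvd : K₀.index ∣ k.factorial := by
    rw [hK₀, index_ker]
    have h1 := card_subgroup_dvd_card (MulAction.toPermHom (S : Subgroup N) (Fin k)).range
    rwa [Nat.card_perm, Nat.card_eq_fintype_card (α := Fin k), Fintype.card_fin] at h1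
  obtain ⟨e, he⟩ : ∃ e, K₀.index = 2 ^ e := (S.2 : IsPGroup 2 (S : Subgroup N)).index _
  have hk : k ≠ 0 := by
    rintro rfl
    exact i.elim0
  have h6 : k ≤ e := by
    have h7 : 2 ^ k ≤ 2 ^ e := by
      rw [← he]
      exact h2k.trans hRle
    exact (Nat.pow_le_pow_iff_right (by norm_num)).1 h7
  have h7 : e ≤ padicValNat 2 k.factorial := by
    rw [← padicValNat_dvd_iff_le (Nat.factorial_ne_zero _), ← he]
    exact hdvd
  have h8 := sub_one_mul_padicValNat_factorial_lt_of_ne_zero 2 hk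
  omega

/-- **THEOREM C with `D`, case `q ≥ 4`, in `N = N_G(E) / C_G(E)`.** -/
theorem bot (i : Fin k) : WW i = ⊥ := by
  by_contra hne
  obtain ⟨a, w, hw, hw1, hwc⟩ := F.d.exists_single (F.two i) hne (fun l => F.hn l i) F.hfix
  have hU : w ∈ F.U i a := F.mem_U.2 ⟨hw, hwc⟩
  by_cases hai : a = i
  · subst hai
    rw [F.U_diag, mem_bot] at hU
    exact hw1 hU
  · refine F.count_false hai fun h => hw1 ?_
    rw [h, mem_bot] at hU
    exact hU

end Fam

end Cfsg.Agent.Omega.IId.ThmCQ
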