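import Cfsg.Agent.Mrg.Omega.ThmC.FourOf
import Cfsg.Agent.Mrg.Omega.IId.Ns.HFac
import Cfsg.Agent.Mrg.Omega.IId.Ns.Defs
import Cfsg.Agent.Mrg.Omega.Half.Basic

section


/-!
# THEOREM C with `D`, `q ≥ 4`, `V_P` split or nonsplit over `D = C_V(O²(P))`: the subgroup `S^L`

`M : NatK F S P (zl S P) (cv S P) k`, `4 ≤ |F|`; `PL M` = the elements of `P` which act on `V / D` as elements of
`SL₂(F)^k` and centralise `D`; `LS M = S ∩ PL M`.  The same facts as in `ThmC/FourOf.lean` (helper334) and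
`ThmCQ/SpBase.lean` (helper732).
-/

set_option autoImplicit false
set_option linter.unusedSectionVars false
set_option linter.unusedVariables false

namespace Cfsg.Agent.Omega.IId.ThmCQ.Nsp

open Subgroup Cfsg Cfsg.Agent.ZN Cfsg.Agent.Omega.IId Cfsg.Agent.Omega.ThmC.Four
open Cfsg.Agent.ZN.ChoiceSit hiding zc_le zc_le_zl
open Cfsg.Agent.ZN.ChoiceBase hiding mem_zc
open Cfsg.Agent.Omega.MinPar Cfsg.Agent.Omega.FrameFF Cfsg.Agent.Omega.FFThm
open Cfsg.Agent.MinSimple.VModule (le_normalizer_zl mem_zc zc_le zc_le_zl)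
open Cfsg.Agent.Lib.SL2Mat
open Cfsg.Agent.Omega.NatPair (ap ap_mul ap_one ap_inv_ap ap_ap_inv exists_ap ap_add ap_inj ap_smul)
open Cfsg.Agent.Omega.ThmC (le_centralizer_of_fixed)
open Cfsg.Agent.Omega.ThmC.FourOf (conj_sylow eq_one_of_pow tri_up dg_pow ap_pow_tri)
open Cfsg.Agent.Omega.HOne (cv_le conj_mem_zl conj_mem_cv)
open Cfsg.Agent.Omega.IId.Cv (e_one e_inv e_div eq_iff e_cv e_mul_cv)
open Cfsg.Agent.Omega.IId.Ns

universe u

section gen

variable {G : Type u} [Group G] {F : Type} [Field F] {S P : Subgroup G} {k : ℕ}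
  {M : NatK F S P (zl S P) (cv S P) k}

/-- the action determines the matrices -/
theorem acts_unique {g : G} {A B : Fin k → Matrix.SpecialLinearGroup (Fin 2) F}
    (hA : ActsSL M.e (zl S P) (cv S P) g A) (hB : ActsSL M.e (zl S P) (cv S P) g B) : A = B := by
  funext i
  refine ap_inj fun x => ?_
  obtain ⟨v, hv, hx, -⟩ := Ns.exists_single (M := M) i x
  rw [← hx, ← hA.1 v hv i, hB.1 v hv i]

theorem acts_pow {g : G} (hg : g ∈ P) {A : Fin k → Matrix.SpecialLinearGroup (Fin 2) F}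
    (hA : ActsSL M.e (zl S P) (cv S P) g A) (n : ℕ) : ActsSL M.e (zl S P) (cv S P) (g ^ n) (fun i => A i ^ n) := by
  induction n with
  | zero => simpa only [pow_zero] using Ns.acts_one M
  | succ n ih =>
    have h1 := Ns.acts_mul M (pow_mem hg n) hg ih hA
    simpa only [pow_succ] using h1

theorem acts_of_cent {g : G} (hg : g ∈ centralizer (zl S P : Set G)) :
    ActsSL M.e (zl S P) (cv S P) g (fun _ => 1) := by
  refine ⟨fun v hv i => ?_, fun d hd => ?_⟩
  · have h1 := mem_centralizer_iff.1 hg v hv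
    have h2 : g * v * g⁻¹ = v := by rw [← h1]; group
    rw [h2, ap_one]
  · exact (mem_centralizer_iff.1 hg d (cv_le _ _ hd)).symm

/-- an element of 2-power order of `S` acting as an element of `SL₂(F)^k` is unipotent -/
theorem exists_up [CharP F 2] (hSP : S ≤ P) (hS : IsPGroup 2 S) {s : G} (hs : s ∈ S)
    {A : Fin k → Matrix.SpecialLinearGroup (Fin 2) F} (hA : ActsSL M.e (zl S P) (cv S P) s A) :
    ∀ i, A i = up (ent (A i) 0 1) := by
  intro i
  have hm : Mv M s i i := fun v hv => by rw [hA.1 v hv i, Ns.ap_eq_zero]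
  obtain ⟨v, hv, hve, -⟩ := Ns.exists_single (M := M) i ![1, 0]
  have h10 : ent (A i) 1 0 = 0 := by
    have h1 := (Ns.conj_line hSP hs hm hv).2 (by rw [hve]; rfl)
    rw [hA.1 v hv i, hve, NatPair.ap_one'] at h1
    simpa using h1
  obtain ⟨n, hn⟩ := hS ⟨s, hs⟩
  have hn' : s ^ 2 ^ n = 1 := congrArg Subtype.val hn
  have h3 := acts_pow (hSP hs) hA (2 ^ n)
  rw [hn'] at h3
  have h4 := acts_unique h3 (Ns.acts_one M)
  have h5 : A i ^ 2 ^ n = 1 := congrFun h4 i
  have h6 := ap_pow_tri h10 (2 ^ n)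
  rw [h5, ap_one] at h6
  have h7 : (ent (A i) 0 0) ^ 2 ^ n = 1 := (congrFun h6 0).symm
  have h00 := eq_one_of_pow h7
  have h11 : ent (A i) 1 1 = 1 := by
    have h8 := det_eq (A i)
    rw [h00, h10] at h8
    simpa using h8
  apply ext_ent
  · rw [h00, up_00]
  · rw [up_01]
  · rw [h10, up_10]
  · rw [h11, up_11]

/-- the elements of `P` which act as elements of `SL₂(F)^k` -/
def PL (M : NatK F S P (zl S P) (cv S P) k) : Subgroup G where
  carrier := {g | g ∈ P ∧ ∃ A, ActsSL M.e (zl S P) (cv S P) g A}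
  one_mem' := ⟨one_mem _, _, Ns.acts_one M⟩
  mul_mem' := by
    rintro x y ⟨hx, A, hA⟩ ⟨hy, B, hB⟩
    exact ⟨mul_mem hx hy, _, Ns.acts_mul M hx hy hA hB⟩
  inv_mem' := by
    rintro x ⟨hx, A, hA⟩
    exact ⟨inv_mem hx, _, Ns.acts_inv M hx hA⟩

theorem PL_le : PL M ≤ P := fun _ h => h.1

theorem PL_normal : P ≤ normalizer (PL M : Set G) :=
  Sd.le_normalizer_of_conj fun g hg x hx => by
    obtain ⟨hxP, A, hA⟩ := hx
    obtain ⟨B, hB⟩ := Sd.acts_conj M hg hxP hA
    exact ⟨mul_mem (mul_mem hg hxP) (inv_mem hg), B, hB⟩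

/-- the vectors whose coordinates are all on the lines -/
def LV (M : NatK F S P (zl S P) (cv S P) k) : Set G := {v | v ∈ zl S P ∧ ∀ l, M.e v l 1 = 0}

end gen

/-- The situation. -/
structure Sit {G : Type u} [Group G] [Finite G] (F : Type) [Field F] (S : Sylow 2 G) (P : Subgroup G) (k : ℕ) :
    Prop where
  hG : IsCharacteristicTwoType G
  h : IsParS (S : Subgroup G) P
  hk : 0 < k
  hF : 4 ≤ Nat.card F

section main

variable {G : Type u} [Group G] [Finite G] {F : Type} [Field F] [Finite F] [CharP F 2] {S : Sylow 2 G}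
  {P : Subgroup G} {k : ℕ} (M : NatK F (S : Subgroup G) P (zl (S : Subgroup G) P) (cv (S : Subgroup G) P) k)

/-- `S^L`: the elements of `S` acting as elements of `SL₂(F)^k` -/
def LS : Subgroup G := (S : Subgroup G) ⊓ PL M

variable {M}

theorem LS_le : LS M ≤ S := inf_le_left

theorem S_le_normalizer_LS (hSP : (S : Subgroup G) ≤ P) : (S : Subgroup G) ≤ normalizer (LS M : Set G) := by
  have h1 : (S : Subgroup G) ≤ normalizer ((S : Subgroup G) : Set G) := le_normalizer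
  have h2 : (S : Subgroup G) ≤ normalizer (PL M : Set G) := hSP.trans PL_normal
  intro s hs
  rw [mem_normalizer_iff_cj]
  rw [LS, cj_inf, cj_eq_of_mem_normalizer (h1 hs), cj_eq_of_mem_normalizer (h2 hs)]

theorem exists_b (hSP : (S : Subgroup G) ≤ P) {s : G} (hs : s ∈ LS M) :
    ∃ b : Fin k → F, ActsSL M.e (zl (S : Subgroup G) P) (cv (S : Subgroup G) P) s fun i => up (b i) := by
  obtain ⟨hsS, hsP, A, hA⟩ := hs
  refine ⟨fun i => ent (A i) 0 1, ?_⟩
  have h1 : A = fun i => up (ent (A i) 0 1) :=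
    funext fun i => exists_up (M := M) hSP S.isPGroup' hsS hA i
  rwa [← h1]

theorem mem_LS (hSP : (S : Subgroup G) ≤ P) {s : G} (hs : s ∈ (S : Subgroup G))
    {A : Fin k → Matrix.SpecialLinearGroup (Fin 2) F}
    (hA : ActsSL M.e (zl (S : Subgroup G) P) (cv (S : Subgroup G) P) s A) : s ∈ LS M :=
  ⟨hs, hSP hs, A, hA⟩

theorem mem_LS_of_cent (hSP : (S : Subgroup G) ≤ P) {s : G} (hs : s ∈ (S : Subgroup G))
    (hc : s ∈ centralizer (zl (S : Subgroup G) P : Set G)) : s ∈ LS M :=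
  mem_LS hSP hs (acts_of_cent (M := M) hc)

/-- `LS` is a maximal 2-subgroup of `PL` -/
theorem LS_max (hSP : (S : Subgroup G) ≤ P) {R : Subgroup G} (hR : IsPGroup 2 R) (h1 : LS M ≤ R)
    (h2 : R ≤ PL M) : R = LS M := by
  obtain ⟨g, hg, hgS⟩ := Half.SymA.exists_conj_le S hSP hR (h2.trans PL_le)
  have h3 : cj g R ≤ LS M := by
    intro x hx
    have hx' := mem_cj.1 hx
    have h4 : x = g * (g⁻¹ * x * g) * g⁻¹ := by group
    refine ⟨?_, ?_⟩
    · rw [h4]
      exact hgS _ hx'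
    · rw [h4]
      exact (mem_normalizer_iff.1 (PL_normal hg) _).1 (h2 hx')
  symm
  refine eq_of_le_of_card_ge h1 ?_
  calc Nat.card R = Nat.card (cj g R) := (card_cj g R).symm
    _ ≤ Nat.card (LS M) := Nat.card_le_card_of_injective _ (inclusion_injective h3)

theorem LS_isPGroup : IsPGroup 2 (LS M) := S.isPGroup'.to_le LS_le

/-! ### The ambient facts -/

variable (q : Sit F S P k)

include q

theorem SP : (S : Subgroup G) ≤ P := q.h.le

theorem V_le_S : zl (S : Subgroup G) P ≤ (S : Subgroup G) := Sd.V_le_S q.hG S q.h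

theorem V_comm {v w : G} (hv : v ∈ zl (S : Subgroup G) P) (hw : w ∈ zl (S : Subgroup G) P) : v * w = w * v :=
  Sd.V_comm q.hG S q.h hv hw

theorem V_sq {v : G} (hv : v ∈ zl (S : Subgroup G) P) : v * v = 1 := Cv.sq_zl q.hG S q.h hv

theorem V_le_LS : zl (S : Subgroup G) P ≤ LS M := by
  intro v hv
  refine mem_LS_of_cent q.h.le (V_le_S q hv) ?_
  rw [mem_centralizer_iff]
  intro w hw
  exact V_comm q hw hv

theorem D_le_zc : cv (S : Subgroup G) P ≤ zc (LS M) := by
  intro d hd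
  rw [mem_zc]
  refine ⟨V_le_LS q (cv_le _ _ hd), fun s hs => ?_, ?_⟩
  · obtain ⟨-, -, A, hA⟩ := hs
    exact hA.2 d hd
  · rw [pow_two]
    exact V_sq q (cv_le _ _ hd)

theorem o2_le_LS : o2 P ≤ LS M := by
  have h1 := q.h.inf_centralizer S q.hG
  intro x hx
  rw [← h1] at hx
  exact mem_LS_of_cent q.h.le hx.1 hx.2

/-- `C_G(O₂(P)) ≤ O₂(P)` -/
theorem cent_o2 : centralizer (o2 P : Set G) ≤ o2 P :=
  ThmC.FourOf.cent_o2 q.hG q.h

theorem cent_LS : centralizer (LS M : Set G) ≤ LS M :=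
  (centralizer_le (o2_le_LS q)).trans ((cent_o2 q).trans (o2_le_LS q))

/-- elements acting as `up b` centralise the vectors on the lines -/
theorem comm_LV {g : G} (hg : g ∈ P) {b : Fin k → F}
    (hA : ActsSL M.e (zl (S : Subgroup G) P) (cv (S : Subgroup G) P) g fun i => up (b i)) {v : G}
    (hv : v ∈ LV M) : g * v * g⁻¹ = v := by
  classical
  have key : ∀ I : Finset (Fin k), ∀ x ∈ P, ActsSL M.e (zl (S : Subgroup G) P) (cv (S : Subgroup G) P) x
      (fun i => if i ∈ I then up (b i) else 1) → x * v * x⁻¹ = v := by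
    intro I
    induction I using Finset.induction_on with
    | empty =>
      intro x hx hxA
      have h1 := Sd.comm_of_acts_one q.hG S q.h M q.hk hx (by simpa using hxA) v hv.1
      rw [h1, mul_inv_cancel_right]
    | insert i I hi ih =>
      intro x hx hxA
      obtain ⟨t, ht⟩ := exists_Al M i (up (b i))
      have h1 := Ns.acts_mul M (inv_mem ht.1) hx (Ns.acts_inv M ht.1 ht.2) hxA
      have e : (fun j => (one1 i (up (b i)) j)⁻¹ * (if j ∈ insert i I then up (b j) else 1)) =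
          fun j => if j ∈ I then up (b j) else 1 := by
        funext j
        by_cases hj : j = i
        · subst hj
          rw [one1_same, if_pos (Finset.mem_insert_self _ _), if_neg hi, inv_mul_cancel]
        · rw [one1_ne hj, inv_one, one_mul]
          simp [Finset.mem_insert, hj]
      rw [e] at h1
      have h2 := ih _ (mul_mem (inv_mem ht.1) hx) h1
      have h3 := fix_line q.hG S q.h q.hk q.hF ht hv.1 (hv.2 i)
      calc x * v * x⁻¹ = t * (t⁻¹ * x * v * (t⁻¹ * x)⁻¹) * t⁻¹ := by group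
        _ = t * v * t⁻¹ := by rw [h2]
        _ = v := h3
  exact key Finset.univ g hg (by simpa using hA)

theorem LV_le_zc {v : G} (hv : v ∈ LV M) : v ∈ zc (LS M) := by
  rw [mem_zc]
  refine ⟨V_le_LS q hv.1, fun s hs => ?_, by rw [pow_two]; exact V_sq q hv.1⟩
  obtain ⟨b, hb⟩ := exists_b q.h.le hs
  have := comm_LV q (q.h.le hs.1) hb hv
  calc s * v = (s * v * s⁻¹) * s := by group
    _ = v * s := by rw [this]

/-- `C_V(S^L)` consists of the vectors on the lines -/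
theorem mem_LV_of_cent {v : G} (hv : v ∈ zl (S : Subgroup G) P) (h : ∀ s ∈ LS M, s * v = v * s) : v ∈ LV M := by
  classical
  refine ⟨hv, fun i => ?_⟩
  obtain ⟨t, ht, hact⟩ := M.unip (Function.update 0 i 1)
  have h1 := h t (mem_LS q.h.le ht hact)
  have h2 : t * v * t⁻¹ = v := by rw [h1]; group
  have h3 := congrFun (hact.1 v hv i) 0
  rw [h2, NatPair.ap_zero'] at h3
  simp only [Function.update_self, up_00, up_01, one_mul] at h3
  exact left_eq_add.1 h3

theorem zc_S_le {z : G} (hz : z ∈ zc (S : Subgroup G)) : z ∈ LV M :=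
  mem_LV_of_cent q (zc_le_zl _ P hz) fun s hs => (mem_zc.1 hz).2.1 s hs.1

/-- `C_P(V) ∩ N(S^L)` centralises `E = Ω₁ Z(S^L)` -/
theorem cent_E : P ⊓ centralizer (zl (S : Subgroup G) P : Set G) ⊓ normalizer (LS M : Set G) ≤
    centralizer (zc (LS M) : Set G) := by
  have hnor : normalizer (LS M : Set G) ≤ normalizer (zc (LS M) : Set G) :=
    MinSimple.VModule.normalizer_le_normalizer_zc _
  refine le_centralizer_of_fixed (S := (S : Subgroup G)) (MinSimple.VModule.zc_comm _) (MinSimple.VModule.zc_sq _)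
    (inf_le_right.trans hnor) ?_ S.isPGroup' ((S_le_normalizer_LS q.h.le).trans hnor) ?_ ?_
  · -- 2-elements
    rintro x ⟨⟨hxP, hxV⟩, hxN⟩ n hn a ha
    have hx2 : IsPGroup 2 (zpowers x) := by
      rintro ⟨y, j, rfl⟩
      refine ⟨n, Subtype.ext ?_⟩
      change (x ^ j) ^ 2 ^ n = 1
      rw [← zpow_natCast, ← zpow_mul, mul_comm j, zpow_mul, zpow_natCast, hn, one_zpow]
    have hR : IsPGroup 2 (LS M ⊔ zpowers x : Subgroup G) :=
      IsPGroup.to_sup_of_normal_left' LS_isPGroup hx2 (zpowers_le.2 hxN)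
    have h1 := LS_max q.h.le hR le_sup_left (sup_le inf_le_right (zpowers_le.2
      ⟨hxP, _, acts_of_cent (M := M) hxV⟩))
    have h2 : x ∈ LS M := by
      rw [← h1]
      exact (le_sup_right : zpowers x ≤ _) (mem_zpowers x)
    exact (mem_zc.1 ha).2.1 x h2
  · -- `S` normalises the group
    have h1 : (S : Subgroup G) ≤ normalizer (P : Set G) := q.h.le.trans le_normalizer
    have h2 : (S : Subgroup G) ≤ normalizer (centralizer (zl (S : Subgroup G) P : Set G) : Set G) := by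
      have h3 : (S : Subgroup G) ≤ normalizer (zl (S : Subgroup G) P : Set G) := q.h.le.trans (le_normalizer_zl _ _)
      intro s hs
      rw [mem_normalizer_iff_cj, cj_centralizer, cj_eq_of_mem_normalizer (h3 hs)]
    have h3 : (S : Subgroup G) ≤ normalizer (normalizer (LS M : Set G) : Set G) := by
      intro s hs
      rw [mem_normalizer_iff_cj, cj_normalizer, cj_eq_of_mem_normalizer (S_le_normalizer_LS q.h.le hs)]
    intro s hs
    rw [mem_normalizer_iff_cj, cj_inf, cj_inf, cj_eq_of_mem_normalizer (h1 hs), cj_eq_of_mem_normalizer (h2 hs),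
      cj_eq_of_mem_normalizer (h3 hs)]
  · -- fixed points
    rintro a ha hfix x ⟨⟨hxP, hxV⟩, -⟩
    have h1 : a ∈ zc (S : Subgroup G) := by
      rw [mem_zc]
      exact ⟨LS_le (zc_le _ ha), hfix, (mem_zc.1 ha).2.2⟩
    exact (mem_centralizer_iff.1 hxV a (zc_le_zl _ P h1)).symm

/-- elements of `P ∩ N(S^L)` with the same matrices have the same action on `E` -/
theorem act_of_eq {x y : G} (hx : x ∈ P) (hxN : x ∈ normalizer (LS M : Set G)) (hy : y ∈ P)
    (hyN : y ∈ normalizer (LS M : Set G)) {A : Fin k → Matrix.SpecialLinearGroup (Fin 2) F}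
    (hA : ActsSL M.e (zl (S : Subgroup G) P) (cv (S : Subgroup G) P) x A)
    (hB : ActsSL M.e (zl (S : Subgroup G) P) (cv (S : Subgroup G) P) y A) :
    Act (zc (LS M)) x y := by
  have h1 : y⁻¹ * x ∈ centralizer (zc (LS M) : Set G) := by
    have h0 : y⁻¹ * x ∈ P := mul_mem (inv_mem hy) hx
    have h0' : y⁻¹ * x ∈ normalizer (LS M : Set G) := mul_mem (inv_mem hyN) hxN
    refine cent_E q ⟨⟨h0, mem_centralizer_iff.2 fun v hv => ?_⟩, h0'⟩
    exact (Sd.comm_of_acts_eq q.hG S q.h M q.hk hy hx hB hA v hv).symm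
  intro e he
  have h2 := mem_centralizer_iff.1 h1 e he
  calc x * e * x⁻¹ = y * ((y⁻¹ * x) * e) * x⁻¹ := by group
    _ = y * (e * (y⁻¹ * x)) * x⁻¹ := by rw [h2]
    _ = y * e * y⁻¹ := by group

omit q in
/-- the elements of `P` acting as unitriangular elements -/
def uni (M : NatK F (S : Subgroup G) P (zl (S : Subgroup G) P) (cv (S : Subgroup G) P) k) : Subgroup G where
  carrier := {g | g ∈ P ∧ ∃ b : Fin k → F, ActsSL M.e (zl (S : Subgroup G) P) (cv (S : Subgroup G) P) g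
    fun i => up (b i)}
  one_mem' := ⟨one_mem P, 0, by
    have : (fun i => up ((0 : Fin k → F) i)) = fun _ => (1 : Matrix.SpecialLinearGroup (Fin 2) F) :=
      funext fun i => up_zero
    rw [this]
    exact Ns.acts_one M⟩
  mul_mem' := by
    rintro g h ⟨hg, b, hb⟩ ⟨hh, c, hc⟩
    refine ⟨mul_mem hg hh, b + c, ?_⟩
    have h1 := Ns.acts_mul M hg hh hb hc
    have : (fun i => up (b i) * up (c i)) = fun i => up ((b + c) i) :=
      funext fun i => up_mul _ _
    rwa [this] at h1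
  inv_mem' := by
    rintro g ⟨hg, b, hb⟩
    refine ⟨inv_mem hg, -b, ?_⟩
    have h1 := Ns.acts_inv M hg hb
    have : (fun i => (up (b i))⁻¹) = fun i => up ((-b) i) := funext fun i => up_inv _
    rwa [this] at h1

/-- every upper triangular element of `SL₂(F)^k` is induced by an element of `P ∩ N(S^L)` -/
theorem exists_norm (A : Fin k → Matrix.SpecialLinearGroup (Fin 2) F) (hA : ∀ i, ent (A i) 1 0 = 0) :
    ∃ h ∈ P, h ∈ normalizer (LS M : Set G) ∧ ActsSL M.e (zl (S : Subgroup G) P) (cv (S : Subgroup G) P) h A := by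
  obtain ⟨g, hg, hgA⟩ := M.lift A
  have hLU : LS M ≤ uni M := fun s hs => ⟨q.h.le hs.1, exists_b q.h.le hs⟩
  have hL'U : cj g (LS M) ≤ uni M := by
    intro x hx
    rw [mem_cj] at hx
    obtain ⟨b, hb⟩ := exists_b q.h.le hx
    have h1 := Ns.acts_mul M (mul_mem hg (q.h.le hx.1)) (inv_mem hg) (Ns.acts_mul M hg (q.h.le hx.1) hgA hb)
      (Ns.acts_inv M hg hgA)
    have h2 : g * (g⁻¹ * x * g) * g⁻¹ = x := by group
    rw [h2] at h1
    refine ⟨?_, fun i => ent (A i) 0 0 ^ 2 * b i, ?_⟩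
    · rw [← h2]
      exact mul_mem (mul_mem hg (q.h.le hx.1)) (inv_mem hg)
    · have h3 : (fun i => A i * up (b i) * (A i)⁻¹) = fun i => up (ent (A i) 0 0 ^ 2 * b i) :=
        funext fun i => tri_up (hA i) (b i)
      rwa [h3] at h1
  have hmax : ∀ R : Subgroup G, IsPGroup 2 R → LS M ≤ R → R ≤ uni M → R = LS M := by
    intro R hR h1 h2
    refine LS_max q.h.le hR h1 fun x hx => ?_
    obtain ⟨h3, b, hb⟩ := h2 hx
    exact ⟨h3, _, hb⟩
  obtain ⟨c, ⟨hcP, b, hcb⟩, hcc⟩ := conj_sylow hLU hL'U LS_isPGroup (isPGroup_cj g LS_isPGroup) hmax (card_cj g _)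
  obtain ⟨t, ht, htb⟩ := M.unip b
  have htP := q.h.le ht
  have htL : t ∈ LS M := mem_LS q.h.le ht htb
  refine ⟨t⁻¹ * c * g, mul_mem (mul_mem (inv_mem htP) hcP) hg, ?_, ?_⟩
  · rw [mem_normalizer_iff_cj, ← cj_cj, ← cj_cj, hcc]
    exact cj_eq_of_mem_normalizer (inv_mem (le_normalizer htL))
  · have h1 := Ns.acts_mul M (mul_mem (inv_mem htP) hcP) hg (Ns.acts_mul M (inv_mem htP) hcP
      (Ns.acts_inv M htP htb) hcb) hgA
    simpa using h1

/-- elements of `P ∩ N(S^L)` normalise the set of the vectors on the lines -/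
theorem norm_LV {x : G} (hx : x ∈ P) (hxN : x ∈ normalizer (LS M : Set G)) {v : G}
    (hv : v ∈ LV M) : x * v * x⁻¹ ∈ LV M := by
  refine mem_LV_of_cent q (conj_mem_zl hx hv.1) fun s hs => ?_
  have h1 : x⁻¹ * s * x ∈ LS M := by
    have := (mem_normalizer_iff.1 (inv_mem hxN) s).1 hs
    rwa [inv_inv] at this
  have h2 := (mem_zc.1 (LV_le_zc q hv)).2.1 _ h1
  calc s * (x * v * x⁻¹) = x * ((x⁻¹ * s * x) * v) * x⁻¹ := by group
    _ = x * (v * (x⁻¹ * s * x)) * x⁻¹ := by rw [h2]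
    _ = x * v * x⁻¹ * s := by group

/-- an element of `P ∩ N(S^L)` acting as `B` is upper triangular -/
theorem tri_of_norm {x : G} (hx : x ∈ P) (hxN : x ∈ normalizer (LS M : Set G))
    {B : Fin k → Matrix.SpecialLinearGroup (Fin 2) F}
    (hB : ActsSL M.e (zl (S : Subgroup G) P) (cv (S : Subgroup G) P) x B) (i : Fin k) :
    ent (B i) 1 0 = 0 := by
  obtain ⟨v, hv, hve, hvj⟩ := Ns.exists_single (M := M) i ![1, 0]
  have h1 : v ∈ LV M := by
    refine ⟨hv, fun j => ?_⟩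
    by_cases hj : j = i
    · rw [hj, hve]; rfl
    · rw [hvj j hj]; rfl
  have h2 := (norm_LV q hx hxN h1).2 i
  rw [hB.1 v hv i, hve, NatPair.ap_one'] at h2
  simpa using h2

end main

end Cfsg.Agent.Omega.IId.ThmCQ.Nsp

end

section


/-!
# THEOREM C with `D`, `q ≥ 4`, nonsplit: elements of `S` which commute with the torus elements (helper732)

`M : NatK F S P (zl S P) (cv S P) k`. The same facts as in `ThmCQ/SpField.lean`, modulo `D = cv S P`:

* `act_up_of`, `act_up` : `s ∈ S` fixes the factor `l` and commutes with the multiplication by `t` on the line (mod `D`):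
  `s` acts as `up b` on the factor `l` (mod `D`);
* `acts_of_mod` : `s ∈ S` acts as `A ∈ SL₂(F)^k` modulo `D`: `ActsSL M.e (zl S P) (cv S P) s A` (`s` centralises `D`);
* `acts_of_field` : both together.
-/

set_option autoImplicit false
set_option linter.unusedSectionVars false

namespace Cfsg.Agent.Omega.IId.ThmCQ.Nsp

open Subgroup Cfsg Cfsg.Agent.ZN Cfsg.Agent.ZN.ChoiceSit Cfsg.Agent.ZN.ChoiceBase Cfsg.Agent.Omega.MinPar
open Cfsg.Agent.Omega.FrameFF Cfsg.Agent.Omega.FFThm Cfsg.Agent.Lib.SL2Mat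
open Cfsg.Agent.Omega.NatPair (ap ap_add ap_mul ap_one ap_inj ext2 ap_zero' ap_one' ap_inv_ap ap_ap_inv)
open Cfsg.Agent.Omega.HOne (cv_le conj_mem_zl conj_mem_cv)
open Cfsg.Agent.Omega.IId.Cv Cfsg.Agent.Omega.IId.Ns
open Cfsg.Agent.Omega.ThmC.FourOf (eq_one_of_pow)

universe u

variable {G : Type u} [Group G] {F : Type} [Field F]

section alg

variable {S P : Subgroup G} {k : ℕ} {M : NatK F S P (zl S P) (cv S P) k}

/-- the `l`-th coordinate of `s v s⁻¹` depends only on the `l`-th coordinate of `v` -/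
theorem conj_congr {s : G} (hs : s ∈ P) {l : Fin k} (hsl : Mv M s l l) {v w : G} (hv : v ∈ zl S P) (hw : w ∈ zl S P)
    (h : M.e v l = M.e w l) : M.e (s * v * s⁻¹) l = M.e (s * w * s⁻¹) l := by
  have h1 : M.e (v * w⁻¹) l = 0 := by rw [e_div M hv hw, Pi.sub_apply, h, sub_self]
  have h2 := (hsl _ (mul_mem hv (inv_mem hw))).2 h1
  have e : s * (v * w⁻¹) * s⁻¹ = (s * v * s⁻¹) * (s * w * s⁻¹)⁻¹ := by group
  rw [e, e_div M (conj_mem_zl hs hv) (conj_mem_zl hs hw), Pi.sub_apply, sub_eq_zero] at h2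
  exact h2

/-- semilinearity -/
theorem exists_tau [Finite F] {s : G} (hs : s ∈ P) {l : Fin k} (hsl : Mv M s l l) :
    ∃ τ : F ≃+* F, ∀ v ∈ zl S P, ∀ w ∈ zl S P, ∀ c : F, M.e w l = c • M.e v l →
      M.e (s * w * s⁻¹) l = τ c • M.e (s * v * s⁻¹) l := by
  classical
  have hs' : s⁻¹ ∈ P := inv_mem hs
  have hsl' : Mv M s⁻¹ l l := hsl.inv hs
  choose u hu hue using fun x : Fin 2 → F => exists_single (M := M) l x
  have hue' : ∀ x, M.e (u x) l = x := fun x => (hue x).1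
  let T : (Fin 2 → F) → (Fin 2 → F) := fun x => M.e (s * u x * s⁻¹) l
  let T' : (Fin 2 → F) → (Fin 2 → F) := fun x => M.e (s⁻¹ * u x * s⁻¹⁻¹) l
  have hT : ∀ v ∈ zl S P, T (M.e v l) = M.e (s * v * s⁻¹) l := fun v hv =>
    conj_congr hs hsl (hu _) hv (hue' _)
  have hT' : ∀ v ∈ zl S P, T' (M.e v l) = M.e (s⁻¹ * v * s⁻¹⁻¹) l := fun v hv =>
    conj_congr hs' hsl' (hu _) hv (hue' _)
  have hadd : ∀ x y, T (x + y) = T x + T y := by
    intro x y
    have h1 : M.e (u x * u y) l = x + y := by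
      rw [M.mul _ (hu x) _ (hu y), Pi.add_apply, hue', hue']
    have h2 := hT _ (mul_mem (hu x) (hu y))
    rw [h1] at h2
    have h3 : s * (u x * u y) * s⁻¹ = (s * u x * s⁻¹) * (s * u y * s⁻¹) := by group
    rw [h2, h3, M.mul _ (conj_mem_zl hs (hu x)) _ (conj_mem_zl hs (hu y)), Pi.add_apply]
  have h1 : ∀ x, T' (T x) = x := by
    intro x
    have h2 := hT' _ (conj_mem_zl hs (hu x))
    change T' (T x) = _ at h2
    rw [h2]
    have h3 : s⁻¹ * (s * u x * s⁻¹) * s⁻¹⁻¹ = u x := by group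
    rw [h3, hue']
  have h2 : ∀ x, T (T' x) = x := by
    intro x
    have h2 := hT _ (conj_mem_zl hs' (hu x))
    change T (T' x) = _ at h2
    rw [h2]
    have h3 : s * (s⁻¹ * u x * s⁻¹⁻¹) * s⁻¹ = u x := by group
    rw [h3, hue']
  have hn : ∀ A : Matrix.SpecialLinearGroup (Fin 2) F, ∃ B : Matrix.SpecialLinearGroup (Fin 2) F,
      ∀ x, T' (ap A (T x)) = ap B x := by
    intro A
    obtain ⟨h, hh, hA, -⟩ := M.lift (one1 l A)
    obtain ⟨B, hB⟩ := M.norm s⁻¹ hs' h hh _ hA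
    refine ⟨B l, fun x => ?_⟩
    have h3 := hB (u x) (hu x) l
    rw [hue'] at h3
    rw [← h3]
    have h4 : ap A (T x) = M.e (h * (s * u x * s⁻¹) * h⁻¹) l := by
      rw [hA _ (conj_mem_zl hs (hu x)) l, one1_same]
    rw [h4, hT' _ (conj_mem_zl hh (conj_mem_zl hs (hu x)))]
    have e : s⁻¹ * (h * (s * u x * s⁻¹) * h⁻¹) * s⁻¹⁻¹ = s⁻¹ * h * s⁻¹⁻¹ * u x * (s⁻¹ * h * s⁻¹⁻¹)⁻¹ := by group
    rw [e]
  obtain ⟨σ, hσ⟩ := NatPair.exists_semi T T' hadd h1 h2 hn
  obtain ⟨τ, hτ⟩ := NatPair.exists_ringEquiv T T' hadd h1 σ hσ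
  refine ⟨τ, fun v hv w hw c hc => ?_⟩
  rw [← hT v hv, ← hT w hw, hc, hτ]

theorem Mv_pow {s : G} (hs : s ∈ P) {l : Fin k} (hsl : Mv M s l l) (j : ℕ) : Mv M (s ^ j) l l := by
  induction j with
  | zero =>
    intro v _
    rw [pow_zero, one_mul, inv_one, mul_one]
  | succ j ih => rw [pow_succ]; exact ih.mul hsl hs

/-- powers -/
theorem tau_pow {s : G} (hs : s ∈ P) {l : Fin k} {τ : F ≃+* F}
    (hτ : ∀ v ∈ zl S P, ∀ w ∈ zl S P, ∀ c : F, M.e w l = c • M.e v l →
      M.e (s * w * s⁻¹) l = τ c • M.e (s * v * s⁻¹) l) (j : ℕ) :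
    ∀ v ∈ zl S P, ∀ w ∈ zl S P, ∀ c : F, M.e w l = c • M.e v l →
      M.e (s ^ j * w * (s ^ j)⁻¹) l = (τ ^ j) c • M.e (s ^ j * v * (s ^ j)⁻¹) l := by
  induction j with
  | zero =>
    intro v _ w _ c hc
    simp only [pow_zero, one_mul, inv_one, mul_one]
    exact hc
  | succ j ih =>
    intro v hv w hw c hc
    have hj : s ^ j ∈ P := pow_mem hs j
    have h1 := hτ _ (conj_mem_zl hj hv) _ (conj_mem_zl hj hw) _ (ih v hv w hw c hc)
    have e1 : ∀ x : G, s ^ (j + 1) * x * (s ^ (j + 1))⁻¹ = s * (s ^ j * x * (s ^ j)⁻¹) * s⁻¹ := fun x => by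
      rw [pow_succ']
      group
    rw [e1, e1, h1, pow_succ']
    rfl

/-- **The field automorphism.** `t ∈ F` is not fixed by a nontrivial automorphism of 2-power order, `s ∈ S` fixes the
factor `l` and commutes (modulo `D`) on the line with the multiplication by `t`: `s` acts as a root element on the
factor `l` of `V / D`. -/
theorem act_up_of [Finite F] [CharP F 2] (hSP : S ≤ P) (hS : IsPGroup 2 S) {t : F}
    (ht : ∀ (τ : F ≃+* F) (n : ℕ), τ ^ 2 ^ n = 1 → τ t = t → τ = 1) {s : G} (hs : s ∈ S) {l : Fin k}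
    (hsl : Mv M s l l)
    (hst : ∀ v ∈ zl S P, ∀ w ∈ zl S P, (∀ j, j ≠ l → M.e v j = 0) → (∀ j, j ≠ l → M.e w j = 0) → M.e v l 1 = 0 →
      M.e w l = t • M.e v l → M.e (s * w * s⁻¹) l = t • M.e (s * v * s⁻¹) l) :
    ∃ b : F, ∀ v ∈ zl S P, M.e (s * v * s⁻¹) l = ap (up b) (M.e v l) := by
  classical
  have hsP := hSP hs
  obtain ⟨τ, hτ⟩ := exists_tau (M := M) hsP hsl
  -- the order of `τ`
  obtain ⟨n, hn⟩ := hS ⟨s, hs⟩
  have hn' : s ^ 2 ^ n = 1 := congrArg Subtype.val hn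
  have hτn : τ ^ 2 ^ n = 1 := by
    ext c
    obtain ⟨v, hv, hve, -⟩ := exists_single (M := M) l ![1, 0]
    obtain ⟨w, hw, hwe, -⟩ := exists_single (M := M) l (c • ![1, 0])
    have h1 := tau_pow hsP hτ (2 ^ n) v hv w hw c (by rw [hve, hwe])
    rw [hn', one_mul, one_mul, inv_one, mul_one, mul_one, hve, hwe] at h1
    have h2 := congrFun h1 0
    simpa using h2.symm
  have hline : ∀ v ∈ zl S P, M.e v l 1 = 0 → M.e (s * v * s⁻¹) l 1 = 0 := fun v hv h0 =>
    (IId.Ns.conj_line hSP hs hsl hv).2 h0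
  obtain ⟨v, hv, hve, hvj⟩ := exists_single (M := M) l ![1, 0]
  have hvl : M.e v l 1 = 0 := by rw [hve]; rfl
  have hsv0 : M.e (s * v * s⁻¹) l 0 ≠ 0 := by
    intro h0
    have h1 := hline v hv hvl
    have h2 : M.e (s * v * s⁻¹) l = 0 := ext2 h0 h1
    have h3 := (hsl v hv).1 h2
    rw [hve] at h3
    exact one_ne_zero (congrFun h3 0)
  have hτt : τ t = t := by
    obtain ⟨w, hw, hwe, hwj⟩ := exists_single (M := M) l (t • ![1, 0])
    have h1 := hτ v hv w hw t (by rw [hve, hwe])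
    have h2 := hst v hv w hw hvj hwj hvl (by rw [hve, hwe])
    rw [h2] at h1
    have h3 := congrFun h1 0
    exact (mul_right_cancel₀ hsv0 h3).symm
  have hτ1 := ht τ n hτn hτt
  subst hτ1
  have hlin : ∀ v ∈ zl S P, ∀ w ∈ zl S P, ∀ c : F, M.e w l = c • M.e v l →
      M.e (s * w * s⁻¹) l = c • M.e (s * v * s⁻¹) l := hτ
  -- the image of `(1, 0)`
  obtain ⟨c, hce⟩ : ∃ c, M.e (s * v * s⁻¹) l = ![c, 0] := by
    refine ⟨M.e (s * v * s⁻¹) l 0, ?_⟩
    apply ext2
    · rfl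
    · exact hline v hv hvl
  have hcpow : ∀ j : ℕ, M.e (s ^ j * v * (s ^ j)⁻¹) l = ![c ^ j, 0] := by
    intro j
    induction j with
    | zero => simpa using hve
    | succ j ih =>
      have e1 : s ^ (j + 1) * v * (s ^ (j + 1))⁻¹ = s * (s ^ j * v * (s ^ j)⁻¹) * s⁻¹ := by
        rw [pow_succ']
        group
      rw [e1, hlin v hv _ (conj_mem_zl (pow_mem hsP j) hv) (c ^ j) (by
        rw [ih, hve]
        apply ext2 <;> simp), hce]
      apply ext2
      · simp [pow_succ]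
      · simp
  have hc1 : c = 1 := by
    have h1 := congrFun (hcpow (2 ^ n)) 0
    rw [hn', one_mul, inv_one, mul_one, hve] at h1
    exact eq_one_of_pow h1.symm
  rw [hc1] at hce
  -- the image of `(0, 1)`
  obtain ⟨w, hw, hwe, -⟩ := exists_single (M := M) l ![0, 1]
  obtain ⟨b, d, hbd⟩ : ∃ b d, M.e (s * w * s⁻¹) l = ![b, d] :=
    ⟨_, _, ext2 (x := M.e (s * w * s⁻¹) l) (y := ![M.e (s * w * s⁻¹) l 0, M.e (s * w * s⁻¹) l 1]) rfl rfl⟩
  -- the general formula
  have hgen : ∀ x ∈ zl S P, M.e (s * x * s⁻¹) l = ![M.e x l 0 + b * M.e x l 1, d * M.e x l 1] := by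
    intro x hx
    obtain ⟨x0, hx0, hx0e, -⟩ := exists_single (M := M) l (M.e x l 0 • ![1, 0])
    obtain ⟨x1, hx1, hx1e, -⟩ := exists_single (M := M) l (M.e x l 1 • ![0, 1])
    have h1 : M.e x l = M.e (x0 * x1) l := by
      rw [M.mul _ hx0 _ hx1, Pi.add_apply, hx0e, hx1e]
      apply ext2 <;> simp
    have h2 : s * (x0 * x1) * s⁻¹ = (s * x0 * s⁻¹) * (s * x1 * s⁻¹) := by group
    rw [conj_congr hsP hsl hx (mul_mem hx0 hx1) h1, h2, M.mul _ (conj_mem_zl hsP hx0) _ (conj_mem_zl hsP hx1),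
      Pi.add_apply, hlin v hv x0 hx0 (M.e x l 0) (by rw [hx0e, hve]), hlin w hw x1 hx1 (M.e x l 1) (by rw [hx1e, hwe]),
      hce, hbd]
    apply ext2
    · simp; ring
    · simp; ring
  have hdpow : ∀ j : ℕ, M.e (s ^ j * w * (s ^ j)⁻¹) l 1 = d ^ j := by
    intro j
    induction j with
    | zero => simp [hwe]
    | succ j ih =>
      have e1 : s ^ (j + 1) * w * (s ^ (j + 1))⁻¹ = s * (s ^ j * w * (s ^ j)⁻¹) * s⁻¹ := by
        rw [pow_succ']
        group
      rw [e1, hgen _ (conj_mem_zl (pow_mem hsP j) hw)]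
      change d * M.e (s ^ j * w * (s ^ j)⁻¹) l 1 = _
      rw [ih, pow_succ']
  have hd1 : d = 1 := by
    have h1 := hdpow (2 ^ n)
    rw [hn', one_mul, inv_one, mul_one, hwe] at h1
    exact eq_one_of_pow h1.symm
  refine ⟨b, fun x hx => ?_⟩
  rw [hgen x hx, hd1]
  apply ext2
  · rw [ap_zero', up_00, up_01]; simp
  · rw [ap_one', up_10, up_11]; simp

end alg

section main

variable [Finite G] [CharP F 2] (hG : IsCharacteristicTwoType G) (S : Sylow 2 G) {P : Subgroup G}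
  (h : IsParS (S : Subgroup G) P) {k : ℕ} (hk : 0 < k)
  {M : NatK F (S : Subgroup G) P (zl (S : Subgroup G) P) (cv (S : Subgroup G) P) k}

omit h in
/-- the literal form of helper914 -/
theorem act_up [Finite F] (hSP : (S : Subgroup G) ≤ P) {t : F}
    (ht : ∀ (τ : F ≃+* F) (n : ℕ), τ ^ 2 ^ n = 1 → τ t = t → τ = 1) {s : G} (hs : s ∈ (S : Subgroup G)) {l : Fin k}
    (hm : Mv M s l l)
    (hst : ∀ v ∈ zl (S : Subgroup G) P, ∀ w ∈ zl (S : Subgroup G) P, M.e v l 1 = 0 → M.e w l = t • M.e v l →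
      M.e (s * w * s⁻¹) l = t • M.e (s * v * s⁻¹) l) :
    ∃ b : F, ∀ v ∈ zl (S : Subgroup G) P, M.e (s * v * s⁻¹) l = ap (up b) (M.e v l) :=
  act_up_of (M := M) hSP S.isPGroup' ht hs hm fun v hv w hw _ _ h0 hc => hst v hv w hw h0 hc

include hG h hk in
/-- an element of `S` which acts as an element of `SL₂(F)^k` on `V / D` centralises `D` -/
theorem acts_of_mod {s : G} (hs : s ∈ (S : Subgroup G)) {b : Fin k → F}
    (hA : ∀ v ∈ zl (S : Subgroup G) P, ∀ i, M.e (s * v * s⁻¹) i = ap (up (b i)) (M.e v i)) :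
    ActsSL M.e (zl (S : Subgroup G) P) (cv (S : Subgroup G) P) s fun i => up (b i) := by
  have hsP : s ∈ P := h.le hs
  refine ⟨hA, fun d hd => ?_⟩
  obtain ⟨t, ht, htb⟩ := M.unip b
  have htP : t ∈ P := h.le ht
  have h1 : s * t⁻¹ ∈ kern M := by
    refine ⟨mul_mem hsP (inv_mem htP), fun v hv => funext fun i => ?_⟩
    have e : s * t⁻¹ * v * (s * t⁻¹)⁻¹ = s * (t⁻¹ * v * t⁻¹⁻¹) * s⁻¹ := by group
    have h2 := (IId.Ns.acts_inv M htP htb).1 v hv i
    rw [e, hA _ (conj_mem_zl (inv_mem htP) hv) i, h2, ap_ap_inv]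
  have h2 := comm_of_quot hG S h M hk (mul_mem hs (inv_mem ht)) h1 d (cv_le _ _ hd)
  have h3 := htb.2 d hd
  calc s * d = s * t⁻¹ * (t * d) := by group
    _ = s * t⁻¹ * d * t := by rw [h3]; group
    _ = d * (s * t⁻¹) * t := by rw [h2]
    _ = d * s := by group

include hG h hk in
/-- **`C_S(D^) ≤ S^L`**: `s ∈ S` fixes all factors and commutes (modulo `D`) on all lines with the multiplication by `t`:
`s` acts as a root element on all factors and centralises `D`. -/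
theorem acts_of_field [Finite F] {t : F}
    (ht : ∀ (τ : F ≃+* F) (n : ℕ), τ ^ 2 ^ n = 1 → τ t = t → τ = 1) {s : G} (hs : s ∈ (S : Subgroup G))
    (hsl : ∀ l, Mv M s l l)
    (hst : ∀ l, ∀ v ∈ zl (S : Subgroup G) P, ∀ w ∈ zl (S : Subgroup G) P, (∀ j, j ≠ l → M.e v j = 0) →
      (∀ j, j ≠ l → M.e w j = 0) → M.e v l 1 = 0 → M.e w l = t • M.e v l →
      M.e (s * w * s⁻¹) l = t • M.e (s * v * s⁻¹) l) :
    ∃ b : Fin k → F, ActsSL M.e (zl (S : Subgroup G) P) (cv (S : Subgroup G) P) s fun i => up (b i) := by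
  choose b hb using fun l => act_up_of (M := M) h.le S.isPGroup' ht hs (hsl l) (hst l)
  exact ⟨b, acts_of_mod hG S h hk hs fun v hv i => hb i v hv⟩

end main

end Cfsg.Agent.Omega.IId.ThmCQ.Nsp

end
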