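import Cfsg.Agent.Mrg.Omega.IId.ThmCQ.NsBase
import Cfsg.Agent.Mrg.Omega.IId.Ns.Half
import Cfsg.Agent.Mrg.Omega.ThmC.FourDat
import Cfsg.Agent.Mrg.Omega.IId.ThmCQ.Fix
import Cfsg.Agent.Mrg.Omega.HOne.NSSide

section


/-!
# THEOREM C with `D`, `q ≥ 4`, nonsplit: the torus part `Zf M i` of the line in `N_i`

`M : NatK F S P (zl S P) (cv S P) k`, `4 ≤ |F|`.  `Zf M i` is generated by the `[x, r]`, where `x` acts as `dg t` in the
`i`-th factor only, and `r ∈ Nc M i` is on the line.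

* `Zf_eq` : `Zf M i = {[x, r] | r ∈ Nc M i on the line}` for every `x` acting as `dg t`, `t ≠ 1`;
* `eq_one_of_Zf` : `Zf M i ∩ D = 1`;  `exists_Zf` : `Zf M i` covers the line;
* `conj_Zf` : `S` permutes the `Zf M i`.
-/

set_option autoImplicit false
set_option linter.unusedSectionVars false
set_option linter.unusedVariables false

namespace Cfsg.Agent.Omega.IId.ThmCQ.Nsp

open Subgroup Cfsg Cfsg.Agent.ZN Cfsg.Agent.Omega.IId Cfsg.Agent.Omega.ThmC.Four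
open Cfsg.Agent.ZN.ChoiceSit hiding zc_le zc_le_zl
open Cfsg.Agent.ZN.ChoiceBase hiding mem_zc
open Cfsg.Agent.Omega.MinPar Cfsg.Agent.Omega.FrameFF Cfsg.Agent.Omega.FFThm
open Cfsg.Agent.MinSimple.VModule (le_normalizer_zl mem_zc zc_le zc_le_zl)
open Cfsg.Agent.Lib.SL2Mat
open Cfsg.Agent.Omega.NatPair (ap ap_mul ap_one ap_inv_ap ap_ap_inv exists_ap ap_add ap_inj ap_smul)
open Cfsg.Agent.Omega.HOne (cv_le conj_mem_zl conj_mem_cv)
open Cfsg.Agent.Omega.IId.Cv (e_one e_inv e_div eq_iff e_cv e_mul_cv)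
open Cfsg.Agent.Omega.IId.Ns

universe u

section zf

variable {G : Type u} [Group G] {F : Type} [Field F] {S P : Subgroup G} {k : ℕ}
  (M : NatK F S P (zl S P) (cv S P) k)

/-- the torus part of the line in `Nc M i` -/
def Zf (i : Fin k) : Subgroup G :=
  closure {z | ∃ (t : F) (ht : t ≠ 0) (x : G), Al M i x (dg t ht) ∧ ∃ r ∈ Nc M i, M.e r i 1 = 0 ∧
    z = x * r * x⁻¹ * r⁻¹}

variable {M}

theorem mem_Zf_of {i : Fin k} {t : F} {ht : t ≠ 0} {x r : G} (hx : Al M i x (dg t ht)) (hr : r ∈ Nc M i)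
    (h0 : M.e r i 1 = 0) : x * r * x⁻¹ * r⁻¹ ∈ Zf M i := subset_closure ⟨t, ht, x, hx, r, hr, h0, rfl⟩

/-- the coordinate of `[x, r]` -/
theorem e_comm {i : Fin k} {t : F} {ht : t ≠ 0} {x r : G} (hx : Al M i x (dg t ht)) (hr : r ∈ zl S P)
    (h0 : M.e r i 1 = 0) : M.e (x * r * x⁻¹ * r⁻¹) i = ![(t - 1) * M.e r i 0, 0] := by
  rw [hx.comm_same hr]
  apply NatPair.ext2
  · rw [Pi.sub_apply, NatPair.ap_zero', dg_00, dg_01, h0]; simp; ring
  · rw [Pi.sub_apply, NatPair.ap_one', dg_10, dg_11, h0]; simp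

/-- the elements of `Nc M i` on the line -/
def NL (M : NatK F S P (zl S P) (cv S P) k) (i : Fin k) : Subgroup G where
  carrier := {r | r ∈ Nc M i ∧ M.e r i 1 = 0}
  one_mem' := ⟨one_mem _, by rw [Cv.e_one M]; rfl⟩
  mul_mem' := by
    rintro a b ⟨ha, ha0⟩ ⟨hb, hb0⟩
    refine ⟨mul_mem ha hb, ?_⟩
    rw [M.mul a (Nc_le_zl i ha) b (Nc_le_zl i hb), Pi.add_apply, Pi.add_apply, ha0, hb0, add_zero]
  inv_mem' := by
    rintro a ⟨ha, ha0⟩
    refine ⟨inv_mem ha, ?_⟩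
    rw [Cv.e_inv M (Nc_le_zl i ha), Pi.neg_apply, Pi.neg_apply, ha0, neg_zero]

theorem mem_NL {i : Fin k} {r : G} : r ∈ NL M i ↔ r ∈ Nc M i ∧ M.e r i 1 = 0 := Iff.rfl

theorem NL_le (i : Fin k) : NL M i ≤ Nc M i := fun _ h => h.1

theorem Al.mv {i : Fin k} {x : G} {B : Matrix.SpecialLinearGroup (Fin 2) F} (hx : Al M i x B) : Mv M x i i :=
  fun v hv => by rw [hx.same hv, Ns.ap_eq_zero]

theorem tri_NL {i : Fin k} {x r : G} {B : Matrix.SpecialLinearGroup (Fin 2) F} (hx : Al M i x B)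
    (hB : ent B 1 0 = 0) (hr : r ∈ NL M i) : x * r * x⁻¹ ∈ NL M i := by
  refine ⟨Nc_norm hx.1 (Al.mv hx) hr.1, ?_⟩
  rw [hx.same (Nc_le_zl i hr.1), NatPair.ap_one', hB, hr.2]
  ring

theorem Zf_le_NL (i : Fin k) : Zf M i ≤ NL M i := by
  rw [Zf, closure_le]
  rintro _ ⟨t, ht, x, hx, r, hr, h0, rfl⟩
  exact mul_mem (tri_NL hx (by simp) ⟨hr, h0⟩) (inv_mem (⟨hr, h0⟩ : r ∈ NL M i))

theorem Zf_le (i : Fin k) : Zf M i ≤ Nc M i := (Zf_le_NL i).trans (NL_le i)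

theorem Zf_le_V (i : Fin k) : Zf M i ≤ zl S P := (Zf_le i).trans (Nc_le_zl i)

/-- `g ∈ P` moving the `i`-th factor to the `j`-th conjugates `Nc M i` to `Nc M j` -/
theorem Nc_conj {i j : Fin k} {g : G} (hg : g ∈ P) (hm : Mv M g i j) {n : G} (hn : n ∈ Nc M i) :
    g * n * g⁻¹ ∈ Nc M j := by
  induction hn using closure_induction with
  | mem x hx =>
    obtain ⟨y, hy, v, hv, rfl⟩ := hx
    obtain ⟨B, hB⟩ := exists_of_Fc hy
    obtain ⟨B', hB'⟩ := conj_Al hg hm hB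
    have e : g * (y * v * y⁻¹ * v⁻¹) * g⁻¹ = (g * y * g⁻¹) * (g * v * g⁻¹) * (g * y * g⁻¹)⁻¹ * (g * v * g⁻¹)⁻¹ := by
      group
    rw [e]
    exact mem_Nc hB' (conj_mem_zl hg hv)
  | one => rw [mul_one, mul_inv_cancel]; exact one_mem _
  | mul x y _ _ hx hy =>
    have e : g * (x * y) * g⁻¹ = (g * x * g⁻¹) * (g * y * g⁻¹) := by group
    rw [e]; exact mul_mem hx hy
  | inv x _ hx =>
    have e : g * x⁻¹ * g⁻¹ = (g * x * g⁻¹)⁻¹ := by group
    rw [e]; exact inv_mem hx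

end zf

section main

variable {G : Type u} [Group G] [Finite G] {F : Type} [Field F] [Finite F] [CharP F 2] {S : Sylow 2 G}
  {P : Subgroup G} {k : ℕ} {M : NatK F (S : Subgroup G) P (zl (S : Subgroup G) P) (cv (S : Subgroup G) P) k}
  (q : Sit F S P k)

include q

/-- `[x, r]` is multiplicative in `r` -/
theorem comm_mul {x r r' : G} (hx : x ∈ P) (hr : r ∈ zl (S : Subgroup G) P) (hr' : r' ∈ zl (S : Subgroup G) P) :
    x * (r * r') * x⁻¹ * (r * r')⁻¹ = (x * r * x⁻¹ * r⁻¹) * (x * r' * x⁻¹ * r'⁻¹) := by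
  have h1 : r⁻¹ * (x * r' * x⁻¹) = (x * r' * x⁻¹) * r⁻¹ := V_comm q (inv_mem hr) (conj_mem_zl hx hr')
  have h2 : r⁻¹ * r'⁻¹ = r'⁻¹ * r⁻¹ := V_comm q (inv_mem hr) (inv_mem hr')
  calc x * (r * r') * x⁻¹ * (r * r')⁻¹ = (x * r * x⁻¹) * (x * r' * x⁻¹) * (r'⁻¹ * r⁻¹) := by group
    _ = (x * r * x⁻¹) * ((x * r' * x⁻¹) * r⁻¹) * r'⁻¹ := by rw [← h2]; group
    _ = (x * r * x⁻¹) * (r⁻¹ * (x * r' * x⁻¹)) * r'⁻¹ := by rw [h1]
    _ = _ := by group

/-- `{[x, r] | r ∈ NL M i}` -/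
def Ix (M : NatK F (S : Subgroup G) P (zl (S : Subgroup G) P) (cv (S : Subgroup G) P) k) (i : Fin k)
    (x : G) (hx : x ∈ P) : Subgroup G where
  carrier := {z | ∃ r ∈ NL M i, z = x * r * x⁻¹ * r⁻¹}
  one_mem' := ⟨1, one_mem _, by group⟩
  mul_mem' := by
    rintro _ _ ⟨r, hr, rfl⟩ ⟨r', hr', rfl⟩
    exact ⟨r * r', mul_mem hr hr', (comm_mul q hx (Nc_le_zl i hr.1) (Nc_le_zl i hr'.1)).symm⟩
  inv_mem' := by
    rintro _ ⟨r, hr, rfl⟩
    refine ⟨r, hr, ?_⟩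
    have hV : x * r * x⁻¹ * r⁻¹ ∈ zl (S : Subgroup G) P :=
      mul_mem (conj_mem_zl hx (Nc_le_zl i hr.1)) (inv_mem (Nc_le_zl i hr.1))
    exact inv_eq_of_mul_eq_one_left (V_sq q hV)

theorem hω : ∃ ω : F, ω ≠ 0 ∧ ω ≠ 1 := exists_omega q.hF

/-- an element `[y, r]` without `i`-th coordinate is trivial -/
theorem eq_one_of_comm {i : Fin k} {t : F} {ht : t ≠ 0} {y r : G} (hy : Al M i y (dg t ht)) (hr : r ∈ NL M i)
    (h0 : M.e (y * r * y⁻¹ * r⁻¹) i 0 = 0) : y * r * y⁻¹ * r⁻¹ = 1 := by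
  have hrV := Nc_le_zl i hr.1
  rw [e_comm hy hrV hr.2] at h0
  have h1 : (t - 1) * M.e r i 0 = 0 := h0
  have h2 : y * r * y⁻¹ = r := by
    rcases mul_eq_zero.1 h1 with h3 | h3
    · have ht1 : t = 1 := sub_eq_zero.1 h3
      have h4 : Al M i y 1 := hy.of_eq (by
        apply ext_ent
        · rw [dg_00, ht1]; rfl
        · rw [dg_01]; rfl
        · rw [dg_10]; rfl
        · rw [dg_11, ht1, inv_one]; rfl)
      have h5 := Al.eq_V q.hG S q.h q.hk h4 (Al.one i) hrV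
      rw [h5]; group
    · exact fix_ker q.hG S q.h q.hk q.hF hy hrV (NatPair.ext2 h3 hr.2)
  rw [h2, mul_inv_cancel]

theorem comm_V_of_Al {i : Fin k} {x y : G} {A B : Matrix.SpecialLinearGroup (Fin 2) F} (hx : Al M i x A)
    (hy : Al M i y B) (hAB : A * B = B * A) {v : G} (hv : v ∈ zl (S : Subgroup G) P) :
    x * (y * v * y⁻¹) * x⁻¹ = y * (x * v * x⁻¹) * y⁻¹ := by
  have h1 := Al.eq_V q.hG S q.h q.hk (hx.mul hy) ((hy.mul hx).of_eq hAB.symm) hv
  calc x * (y * v * y⁻¹) * x⁻¹ = x * y * v * (x * y)⁻¹ := by group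
    _ = y * x * v * (y * x)⁻¹ := h1
    _ = _ := by group

omit q in
theorem dg_comm {t t' : F} (ht : t ≠ 0) (ht' : t' ≠ 0) : dg t ht * dg t' ht' = dg t' ht' * dg t ht := by
  apply ext_ent
  · simp [ent_mul]; ring
  · simp [ent_mul]
  · simp [ent_mul]
  · simp [ent_mul]; ring

/-- `{[y, r]} ≤ {[x, r]}` -/
theorem Ix_le {i : Fin k} {t t' : F} {ht : t ≠ 0} {ht' : t' ≠ 0} (ht1 : t ≠ 1) {x y : G} (hx : Al M i x (dg t ht))
    (hy : Al M i y (dg t' ht')) : Ix q M i y hy.1 ≤ Ix q M i x hx.1 := by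
  -- the map `z ↦ [x, z]` on `Ix y`
  have hmap : ∀ z : Ix q M i y hy.1, x * (z : G) * x⁻¹ * (z : G)⁻¹ ∈ Ix q M i y hy.1 := by
    rintro ⟨_, r, hr, rfl⟩
    have hrV := Nc_le_zl i hr.1
    have h1 : x * (y * r * y⁻¹ * r⁻¹) * x⁻¹ = y * (x * r * x⁻¹) * y⁻¹ * (x * r * x⁻¹)⁻¹ := by
      rw [← comm_V_of_Al q hx hy (dg_comm ht ht') hrV]; group
    refine mul_mem ?_ (inv_mem ⟨r, hr, rfl⟩)
    change x * (y * r * y⁻¹ * r⁻¹) * x⁻¹ ∈ _
    rw [h1]
    exact ⟨_, tri_NL hx (by simp) hr, rfl⟩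
  have hV : ∀ z ∈ Ix q M i y hy.1, z ∈ zl (S : Subgroup G) P := by
    rintro _ ⟨r, hr, rfl⟩
    exact mul_mem (conj_mem_zl hy.1 (Nc_le_zl i hr.1)) (inv_mem (Nc_le_zl i hr.1))
  have hL : ∀ z ∈ Ix q M i y hy.1, z ∈ NL M i := by
    rintro _ ⟨r, hr, rfl⟩
    exact mul_mem (tri_NL hy (by simp) hr) (inv_mem hr)
  have hinj : Function.Injective (fun z : Ix q M i y hy.1 =>
      (⟨x * (z : G) * x⁻¹ * (z : G)⁻¹, hmap z⟩ : Ix q M i y hy.1)) := by
    intro a b hab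
    have h1 : x * (a : G) * x⁻¹ * (a : G)⁻¹ = x * (b : G) * x⁻¹ * (b : G)⁻¹ := congrArg Subtype.val hab
    have haV := hV _ a.2
    have hbV := hV _ b.2
    have h2 := comm_mul q hx.1 haV (inv_mem hbV)
    have h3 := comm_mul q hx.1 hbV (inv_mem hbV)
    rw [h1, ← h3, mul_inv_cancel] at h2
    have h4 : x * ((a : G) * (b : G)⁻¹) * x⁻¹ * ((a : G) * (b : G)⁻¹)⁻¹ = 1 := by rw [h2]; group
    -- the coordinate of `c = a b⁻¹`
    have hc : (a : G) * (b : G)⁻¹ ∈ Ix q M i y hy.1 := mul_mem a.2 (inv_mem b.2)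
    have hcV := hV _ hc
    have h5 := e_comm hx hcV (hL _ hc).2
    rw [h4, Cv.e_one M] at h5
    have h6 : (t - 1) * M.e ((a : G) * (b : G)⁻¹) i 0 = 0 := (congrFun h5 0).symm
    have h7 : M.e ((a : G) * (b : G)⁻¹) i 0 = 0 := by
      rcases mul_eq_zero.1 h6 with h | h
      · exact absurd (sub_eq_zero.1 h) ht1
      · exact h
    obtain ⟨r, hr, hcr⟩ := hc
    rw [hcr] at h7
    have h8 := eq_one_of_comm q hy hr h7
    rw [← hcr] at h8
    exact Subtype.ext (mul_inv_eq_one.1 h8)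
  have hsurj := Finite.surjective_of_injective hinj
  intro z hz
  obtain ⟨w, hw⟩ := hsurj ⟨z, hz⟩
  have h1 : x * (w : G) * x⁻¹ * (w : G)⁻¹ = z := congrArg Subtype.val hw
  exact ⟨w, hL _ w.2, h1.symm⟩

/-- `Zf M i = {[x, r] | r ∈ NL M i}` -/
theorem Zf_eq {i : Fin k} {t : F} {ht : t ≠ 0} (ht1 : t ≠ 1) {x : G} (hx : Al M i x (dg t ht)) :
    Zf M i = Ix q M i x hx.1 := by
  apply le_antisymm
  · rw [Zf, closure_le]
    rintro _ ⟨t', ht', y, hy, r, hr, h0, rfl⟩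
    exact Ix_le q ht1 hx hy ⟨r, ⟨hr, h0⟩, rfl⟩
  · rintro _ ⟨r, hr, rfl⟩
    exact mem_Zf_of hx hr.1 hr.2

theorem mem_Zf {i : Fin k} {t : F} {ht : t ≠ 0} (ht1 : t ≠ 1) {x : G} (hx : Al M i x (dg t ht)) {z : G} :
    z ∈ Zf M i ↔ ∃ r ∈ NL M i, z = x * r * x⁻¹ * r⁻¹ := by rw [Zf_eq q ht1 hx]; rfl

/-- `Zf M i ∩ D = 1` -/
theorem eq_one_of_Zf {i : Fin k} {z : G} (hz : z ∈ Zf M i) (h0 : M.e z i 0 = 0) : z = 1 := by
  obtain ⟨t, ht, ht1⟩ := exists_omega q.hF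
  obtain ⟨x, hx⟩ := exists_Al M i (dg t ht)
  obtain ⟨r, hr, rfl⟩ := (mem_Zf q ht1 hx).1 hz
  exact eq_one_of_comm q hx hr h0

/-- `Zf M i` covers the line -/
theorem exists_Zf (i : Fin k) (c : F) : ∃ z ∈ Zf M i, M.e z i = ![c, 0] := by
  obtain ⟨t, ht, ht1⟩ := exists_omega q.hF
  obtain ⟨x, hx⟩ := exists_Al M i (dg t ht)
  obtain ⟨r, hr, he⟩ := Sd.Nc_surj M i ![c / (t - 1), 0]
  have h0 : M.e r i 1 = 0 := by rw [he]; rfl
  refine ⟨x * r * x⁻¹ * r⁻¹, mem_Zf_of hx hr h0, ?_⟩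
  rw [e_comm hx (Nc_le_zl i hr) h0, he]
  have h1 : t - 1 ≠ 0 := sub_ne_zero.2 ht1
  apply NatPair.ext2
  · simp; field_simp
  · simp

theorem Zf_inj {i : Fin k} {z w : G} (hz : z ∈ Zf M i) (hw : w ∈ Zf M i) (h0 : M.e z i 0 = M.e w i 0) : z = w := by
  have h1 : z * w⁻¹ ∈ Zf M i := mul_mem hz (inv_mem hw)
  have h2 : M.e (z * w⁻¹) i 0 = 0 := by
    rw [e_div M (Zf_le_V i hz) (Zf_le_V i hw), Pi.sub_apply, Pi.sub_apply, h0, sub_self]
  exact mul_inv_eq_one.1 (eq_one_of_Zf q h1 h2)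

theorem Zf_ne_bot (i : Fin k) : Zf M i ≠ ⊥ := by
  intro h0
  obtain ⟨z, hz, he⟩ := exists_Zf q (M := M) i 1
  rw [h0, mem_bot] at hz
  rw [hz, Cv.e_one M] at he
  have := congrFun he 0
  simp at this

theorem Zf_LV {i : Fin k} {z : G} (hz : z ∈ Zf M i) : z ∈ LV M := by
  refine ⟨Zf_le_V i hz, fun l => ?_⟩
  by_cases hl : l = i
  · rw [hl]; exact (Zf_le_NL i hz).2
  · rw [Sd.e_Nc M (Zf_le i hz) hl]; rfl

theorem Zf_le_zc (i : Fin k) : Zf M i ≤ zc (LS M) := fun _ hz => LV_le_zc q (Zf_LV q hz)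

/-- the elements of `P` which move the `i`-th factor to the `j`-th and the line to the line -/
theorem conj_Zf {i j : Fin k} {g : G} (hg : g ∈ P) (hm : Mv M g i j)
    (hl : ∀ v ∈ zl (S : Subgroup G) P, M.e (g * v * g⁻¹) j 1 = 0 ↔ M.e v i 1 = 0) {z : G} (hz : z ∈ Zf M i) :
    g * z * g⁻¹ ∈ Zf M j := by
  unfold Zf at hz
  induction hz using closure_induction with
  | mem z hz =>
    obtain ⟨t, ht, x, hx, r, hr, h0, rfl⟩ := hz
    obtain ⟨B, hB⟩ := conj_Al hg hm hx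
    have hB0 : ent B 1 0 = 0 := by
      obtain ⟨u, hu, h1, -⟩ := Ns.exists_single (M := M) j ![1, 0]
      have hv : g⁻¹ * u * g ∈ zl (S : Subgroup G) P := by
        have := conj_mem_zl (inv_mem hg) hu
        rwa [inv_inv] at this
      have e : g * (g⁻¹ * u * g) * g⁻¹ = u := by group
      have h2 := hl _ hv
      rw [e, h1] at h2
      have h3 : M.e (g⁻¹ * u * g) i 1 = 0 := h2.1 rfl
      have h4 : M.e (x * (g⁻¹ * u * g) * x⁻¹) i 1 = 0 := by
        rw [hx.same hv, NatPair.ap_one', dg_10, h3]; ring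
      have h5 := (hl _ (hx.V hv)).2 h4
      have e2 : g * (x * (g⁻¹ * u * g) * x⁻¹) * g⁻¹ = (g * x * g⁻¹) * u * (g * x * g⁻¹)⁻¹ := by group
      rw [e2, hB.same hu, h1, NatPair.ap_one'] at h5
      simpa using h5
    obtain ⟨m, c, hmc⟩ := exists_dg_up hB0
    obtain ⟨d, hd⟩ := exists_Al M j (dg (m : F) m.ne_zero)
    obtain ⟨w, hw⟩ := exists_Al M j (up c)
    have hrN : r ∈ NL M i := ⟨hr, h0⟩
    have hrV := Nc_le_zl i hr
    have hr' : g * r * g⁻¹ ∈ NL M j := ⟨Nc_conj hg hm hr, (hl _ hrV).2 h0⟩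
    have hr'V := Nc_le_zl j hr'.1
    have h1 : (g * x * g⁻¹) * (g * r * g⁻¹) * (g * x * g⁻¹)⁻¹ = d * (g * r * g⁻¹) * d⁻¹ := by
      have h2 := Al.eq_V q.hG S q.h q.hk (hB.of_eq hmc) (hd.mul hw) hr'V
      have h3 := fix_line q.hG S q.h q.hk q.hF hw hr'V hr'.2
      rw [h2]
      calc d * w * (g * r * g⁻¹) * (d * w)⁻¹ = d * (w * (g * r * g⁻¹) * w⁻¹) * d⁻¹ := by group
        _ = _ := by rw [h3]
    have e : g * (x * r * x⁻¹ * r⁻¹) * g⁻¹ =
        (g * x * g⁻¹) * (g * r * g⁻¹) * (g * x * g⁻¹)⁻¹ * (g * r * g⁻¹)⁻¹ := by group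
    rw [e, h1]
    exact mem_Zf_of hd hr'.1 hr'.2
  | one => rw [mul_one, mul_inv_cancel]; exact one_mem _
  | mul x y _ _ hx hy =>
    have e : g * (x * y) * g⁻¹ = (g * x * g⁻¹) * (g * y * g⁻¹) := by group
    rw [e]; exact mul_mem hx hy
  | inv x _ hx =>
    have e : g * x⁻¹ * g⁻¹ = (g * x * g⁻¹)⁻¹ := by group
    rw [e]; exact inv_mem hx

/-- `S` permutes the `Zf M i` -/
theorem conj_Zf_S {i j : Fin k} {s : G} (hs : s ∈ (S : Subgroup G)) (hm : Mv M s i j) {v : G} :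
    v ∈ Zf M i ↔ s * v * s⁻¹ ∈ Zf M j := by
  have hsP := q.h.le hs
  refine ⟨conj_Zf q hsP hm fun v hv => Ns.conj_line q.h.le hs hm hv, fun h => ?_⟩
  have hm' := hm.inv hsP
  have h1 := conj_Zf q (inv_mem hsP) hm' (fun v hv => Ns.conj_line q.h.le (inv_mem hs) hm' hv) h
  have e : s⁻¹ * (s * v * s⁻¹) * s⁻¹⁻¹ = v := by group
  rwa [e] at h1

/-- elements acting as an upper triangular matrix normalise `Zf M i` -/
theorem conj_Zf_Al {i : Fin k} {x : G} {B : Matrix.SpecialLinearGroup (Fin 2) F} (hx : Al M i x B)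
    (hB : ent B 1 0 = 0) {z : G} (hz : z ∈ Zf M i) : x * z * x⁻¹ ∈ Zf M i := by
  refine conj_Zf q hx.1 (Al.mv hx) (fun v hv => ?_) hz
  rw [hx.same hv, NatPair.ap_one', hB, zero_mul, zero_add]
  have hd := det_eq B
  rw [hB, mul_zero, sub_zero] at hd
  have h11 : ent B 1 1 ≠ 0 := fun h0 => by rw [h0, mul_zero] at hd; exact zero_ne_one hd
  exact ⟨fun h => (mul_eq_zero.1 h).resolve_left h11, fun h => by rw [h, mul_zero]⟩

/-- the elements acting on the factor `j ≠ i` only centralise `Nc M i` -/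
theorem Al_comm_Nc {i j : Fin k} (hij : i ≠ j) {x n : G} {B : Matrix.SpecialLinearGroup (Fin 2) F} (hx : Al M j x B)
    (hn : n ∈ Nc M i) : x * n = n * x := Sd.Fc_comm_Nc q.hG S q.h M (hω q) hij hx.mem_Fc hn

/-- the vectors on the lines are the products of elements of the `Zf M i` and of `D` -/
theorem exists_dw {v : G} (hv : v ∈ LV M) :
    ∃ d ∈ cv (S : Subgroup G) P, ∃ w ∈ ⨆ l, Zf M l, v = d * w := by
  classical
  have key : ∀ I : Finset (Fin k), ∀ v ∈ LV M, (∀ j, j ∉ I → M.e v j = 0) →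
      ∃ d ∈ cv (S : Subgroup G) P, ∃ w ∈ ⨆ l, Zf M l, v = d * w := by
    intro I
    induction I using Finset.induction_on with
    | empty =>
      intro v hv h0
      refine ⟨v, ?_, 1, one_mem _, by rw [mul_one]⟩
      rw [← M.ker v hv.1]
      exact funext fun j => h0 j (by simp)
    | insert i I hi ih =>
      intro v hv h0
      obtain ⟨a, ha, hae⟩ := exists_Zf q (M := M) i (M.e v i 0)
      have haV := Zf_le_V i ha
      have haL := Zf_LV q ha
      have hi' : M.e a i = M.e v i := by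
        rw [hae]
        exact NatPair.ext2 rfl (hv.2 i).symm
      have e1 : M.e (v * a⁻¹) = M.e v - M.e a := e_div M hv.1 haV
      obtain ⟨d, hd, w, hw, he⟩ := ih (v * a⁻¹) ⟨mul_mem hv.1 (inv_mem haV), fun l => by
        rw [e1, Pi.sub_apply, Pi.sub_apply, hv.2 l, haL.2 l, sub_self]⟩ (fun j hj => by
          rw [e1, Pi.sub_apply]
          by_cases hji : j = i
          · rw [hji, hi', sub_self]
          · rw [h0 j (by rw [Finset.mem_insert, not_or]; exact ⟨hji, hj⟩), Sd.e_Nc M (Zf_le i ha) hji, sub_self])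
      refine ⟨d, hd, w * a, mul_mem hw ((le_iSup (fun l => Zf M l) i) ha), ?_⟩
      rw [← mul_assoc, ← he, inv_mul_cancel_right]
  exact key Finset.univ v hv fun j hj => absurd (Finset.mem_univ j) hj

end main

end Cfsg.Agent.Omega.IId.ThmCQ.Nsp

end

section


/-!
# THEOREM C with `D`, `q ≥ 4`, nonsplit: the data `DatD`

`M : NatK F S P (zl S P) (cv S P) k`, `4 ≤ |F|`: `exists_tor` gives `h : Fin k → G`, a prime `p` and `Tor M t p h`;
`Tor.dat : DatD S (LS M) (Zf M) h p`.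
-/

set_option autoImplicit false
set_option linter.unusedSectionVars false
set_option linter.unusedVariables false

namespace Cfsg.Agent.Omega.IId.ThmCQ.Nsp

open Subgroup Cfsg Cfsg.Agent.ZN Cfsg.Agent.Omega.IId Cfsg.Agent.Omega.ThmC.Four
open Cfsg.Agent.ZN.ChoiceSit hiding zc_le zc_le_zl
open Cfsg.Agent.ZN.ChoiceBase hiding mem_zc
open Cfsg.Agent.Omega.MinPar Cfsg.Agent.Omega.FrameFF Cfsg.Agent.Omega.FFThm
open Cfsg.Agent.MinSimple.VModule (le_normalizer_zl mem_zc zc_le zc_le_zl)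
open Cfsg.Agent.Lib.SL2Mat
open Cfsg.Agent.Omega.NatPair (ap ap_mul ap_one ap_inv_ap ap_ap_inv exists_ap ap_add ap_inj ap_smul)
open Cfsg.Agent.Omega.ThmC (exists_t)
open Cfsg.Agent.Omega.ThmC.FourOf (eq_one_of_pow dg_pow ap_pow_tri mem_norm_of_le tri_eq)
open Cfsg.Agent.Omega.HOne (cv_le conj_mem_zl conj_mem_cv)
open Cfsg.Agent.Omega.IId.Cv (e_div eq_iff e_cv e_mul_cv)
open Cfsg.Agent.Omega.IId.Ns

universe u

variable {G : Type u} [Group G] [Finite G] {F : Type} [Field F] [Finite F] [CharP F 2] {S : Sylow 2 G}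
  {P : Subgroup G} {k : ℕ}

/-- The torus elements. -/
structure Tor (M : NatK F (S : Subgroup G) P (zl (S : Subgroup G) P) (cv (S : Subgroup G) P) k) (t : F) (p : ℕ)
    (h : Fin k → G) : Prop where
  prime : p.Prime
  odd : p ≠ 2
  ne_one : t ≠ 1
  pow : t ^ p = 1
  ne_zero : t ≠ 0
  field : ∀ (τ : F ≃+* F) (n : ℕ), τ ^ 2 ^ n = 1 → τ t = t → τ = 1
  al : ∀ l, Al M l (h l) (dg t ne_zero)
  nor : ∀ l, h l ∈ normalizer (LS M : Set G)

variable {M : NatK F (S : Subgroup G) P (zl (S : Subgroup G) P) (cv (S : Subgroup G) P) k} {t : F} {p : ℕ}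
  {h : Fin k → G}

theorem exists_tor (q : Sit F S P k) : ∃ (t : F) (p : ℕ) (h : Fin k → G), Tor M t p h := by
  classical
  obtain ⟨p, t, hp, hp2, ht1, htp, hf⟩ := exists_t q.hF
  have ht0 : t ≠ 0 := by
    rintro rfl
    rw [zero_pow hp.ne_zero] at htp
    exact zero_ne_one htp
  have key : ∀ l : Fin k, ∃ g : G, g ∈ normalizer (LS M : Set G) ∧ Al M l g (dg t ht0) := by
    intro l
    obtain ⟨g, hg, hgn, hga⟩ := exists_norm (M := M) q (one1 l (dg t ht0)) fun i => by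
      by_cases hi : i = l
      · rw [hi, one1_same, dg_10]
      · rw [one1_ne hi]; simp
    exact ⟨g, hgn, hg, hga⟩
  choose h h1 h2 using key
  exact ⟨t, p, h, ⟨hp, hp2, ht1, htp, ht0, hf, h2, h1⟩⟩

/-- powers of `Al` -/
theorem Al_pow {i : Fin k} {x : G} {B : Matrix.SpecialLinearGroup (Fin 2) F} (hx : Al M i x B) (n : ℕ) :
    Al M i (x ^ n) (B ^ n) := by
  induction n with
  | zero => rw [pow_zero, pow_zero]; exact Al.one i
  | succ n ih => rw [pow_succ, pow_succ]; exact ih.mul hx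

namespace Tor

variable (T : Tor M t p h)

include T

theorem e_line {l : Fin k} {v : G} (hv : v ∈ zl (S : Subgroup G) P) (h1 : M.e v l 1 = 0) :
    M.e (h l * v * (h l)⁻¹) l = t • M.e v l := by
  rw [(T.al l).same hv]
  apply NatPair.ext2
  · rw [NatPair.ap_zero', dg_00, dg_01, h1]; simp
  · rw [NatPair.ap_one', dg_10, dg_11, h1]; simp [h1]

theorem pow_al (l : Fin k) : Al M l (h l ^ p) 1 := by
  refine (Al_pow (T.al l) p).of_eq ?_
  rw [dg_pow]
  apply ext_ent <;> simp [T.pow]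

theorem fpf (q : Sit F S P k) {l : Fin k} {v : G} (hv : v ∈ Zf M l) (hc : h l * v = v * h l) : v = 1 := by
  have h1 := T.e_line (Zf_le_V l hv) (Zf_le_NL l hv).2
  have h2 : h l * v * (h l)⁻¹ = v := by rw [hc]; group
  rw [h2] at h1
  refine eq_one_of_Zf q hv ?_
  have h3 := congrFun h1 0
  simp only [Pi.smul_apply, smul_eq_mul] at h3
  have h4 : (t - 1) * M.e v l 0 = 0 := by linear_combination -h3
  rcases mul_eq_zero.1 h4 with h5 | h5
  · exact absurd (sub_eq_zero.1 h5) T.ne_one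
  · exact h5

end Tor

theorem al_acts {i j : Fin k} {x y : G} {A B : Matrix.SpecialLinearGroup (Fin 2) F} (hx : Al M i x A)
    (hy : Al M j y B) : ActsSL M.e (zl (S : Subgroup G) P) (cv (S : Subgroup G) P) (x * y)
      (fun l => one1 i A l * one1 j B l) := Ns.acts_mul M hx.1 hy.1 hx.2 hy.2


/-- the data -/
theorem Tor.dat (T : Tor M t p h) (q : Sit F S P k) : DatD S (LS M) (Zf M) h p where
  prime := T.prime
  odd := T.odd
  LS := LS_le
  nor := S_le_normalizer_LS q.h.le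
  cL := cent_LS q
  hL := T.nor
  hcomm l m := by
    refine act_of_eq q (mul_mem (T.al l).1 (T.al m).1) (mul_mem (T.nor l) (T.nor m))
      (mul_mem (T.al m).1 (T.al l).1) (mul_mem (T.nor m) (T.nor l)) (al_acts (T.al l) (T.al m)) ?_
    have h1 := al_acts (T.al m) (T.al l)
    have e : (fun j => one1 m (dg t T.ne_zero) j * one1 l (dg t T.ne_zero) j) =
        fun j => one1 l (dg t T.ne_zero) j * one1 m (dg t T.ne_zero) j := by
      by_cases hlm : l = m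
      · rw [hlm]
      funext i
      by_cases hi : i = l
      · have him : i ≠ m := fun h => hlm (hi.symm.trans h)
        rw [one1_ne him, one_mul, mul_one]
      · rw [one1_ne hi, one_mul, mul_one]
    rwa [e] at h1
  hp l := by
    refine act_of_eq q (pow_mem (T.al l).1 p) (pow_mem (T.nor l) p) (one_mem _) (one_mem _)
      (T.pow_al l).2 ?_
    rw [one1_one]
    exact Ns.acts_one M
  perm s hs := by
    classical
    have hsP := q.h.le hs
    obtain ⟨σ, hσ⟩ := M.perm s hsP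
    refine ⟨σ, fun l => ?_⟩
    have hm : Mv M s l (σ l) := fun v hv => hσ v hv l
    obtain ⟨m, hm'⟩ : ∃ m, m = σ l := ⟨_, rfl⟩
    rw [← hm'] at hm ⊢
    obtain ⟨a, c, hx⟩ := conj_Al_line q.h.le hs hm (by simp) (T.al l)
    have hxN : s * h l * s⁻¹ ∈ normalizer (LS M : Set G) :=
      mul_mem (mul_mem (S_le_normalizer_LS q.h.le hs) (T.nor l)) (inv_mem (S_le_normalizer_LS q.h.le hs))
    obtain ⟨A, hA⟩ : ∃ A, A = dg (a : F) a.ne_zero * up c := ⟨_, rfl⟩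
    rw [← hA] at hx
    have htri : ent A 1 0 = 0 := by rw [hA]; simp [ent_mul]
    obtain ⟨x, hxdef⟩ : ∃ x, x = s * h l * s⁻¹ := ⟨_, rfl⟩
    rw [← hxdef] at hx hxN ⊢
    have hAp : A ^ p = 1 := by
      have h1 := Al_pow hx p
      have h2 : ∀ v ∈ zl (S : Subgroup G) P, x ^ p * v * (x ^ p)⁻¹ = v := by
        intro v hv
        have hw : s⁻¹ * v * s ∈ zl (S : Subgroup G) P := by
          have := conj_mem_zl (inv_mem hsP) hv
          rwa [inv_inv] at this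
        have h3 := Al.eq_V q.hG S q.h q.hk (T.pow_al l) (Al.one l) hw
        have e : x ^ p = s * h l ^ p * s⁻¹ := by rw [hxdef, conj_pow]
        calc x ^ p * v * (x ^ p)⁻¹ = s * (h l ^ p * (s⁻¹ * v * s) * (h l ^ p)⁻¹) * s⁻¹ := by rw [e]; group
          _ = s * (1 * (s⁻¹ * v * s) * 1⁻¹) * s⁻¹ := by rw [h3]
          _ = v := by group
      refine ap_inj fun y => ?_
      obtain ⟨v, hv, hvy, -⟩ := Ns.exists_single (M := M) m y
      rw [← hvy, ← h1.same hv, h2 v hv, ap_one]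
    have hap : (ent A 0 0) ^ p = 1 := by
      have h1 := ap_pow_tri htri p
      rw [hAp, ap_one] at h1
      exact (congrFun h1 0).symm
    have ha0 : ent A 0 0 ≠ 0 := by
      intro h0
      rw [h0, zero_pow T.prime.ne_zero] at hap
      exact zero_ne_one hap
    -- `ent A 0 0` is a power of `t`
    have : Fact p.Prime := ⟨T.prime⟩
    have : NeZero p := ⟨T.prime.ne_zero⟩
    have hprim : IsPrimitiveRoot t p := by
      rw [IsPrimitiveRoot.iff_orderOf]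
      exact orderOf_eq_prime T.pow T.ne_one
    obtain ⟨r, -, hr⟩ := hprim.eq_pow_of_pow_eq_one hap
    refine ⟨r, ?_⟩
    obtain ⟨b, hb⟩ : ∃ b, b = ent A 0 1 * ent A 0 0 := ⟨_, rfl⟩
    obtain ⟨u, hu, hub⟩ := M.unip (fun i => if i = m then b else 0)
    have huA : Al M m u (up b) := by
      refine ⟨q.h.le hu, ?_⟩
      have e : (fun i => up (if i = m then b else 0)) = one1 m (up b) := by
        funext i
        by_cases hi : i = m
        · rw [hi, if_pos rfl, one1_same]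
        · rw [if_neg hi, one1_ne hi, up_zero]
      rwa [e] at hub
    have huL : u ∈ LS M := mem_LS q.h.le hu hub
    have huN : u ∈ normalizer (LS M : Set G) := le_normalizer huL
    have h1 : Act (zc (LS M)) x (u * h m ^ r) := by
      refine act_of_eq q hx.1 hxN (mul_mem huA.1 (pow_mem (T.al m).1 r))
        (mul_mem huN (pow_mem (T.nor m) r)) hx.2 ((huA.mul (Al_pow (T.al m) r)).of_eq ?_).2
      rw [dg_pow]
      have h3 := tri_eq htri ha0
      conv_rhs => rw [h3]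
      rw [hb]
      congr 1
      apply ext_ent <;> simp [hr]
    intro e he
    rw [h1 e he]
    have h3 : h m ^ r * e * (h m ^ r)⁻¹ ∈ zc (LS M) :=
      (mem_normalizer_iff.1 (MinSimple.VModule.normalizer_le_normalizer_zc _ (pow_mem (T.nor m) r)) e).1 he
    have h4 := (mem_zc.1 h3).2.1 u huL
    calc u * h m ^ r * e * (u * h m ^ r)⁻¹ = (u * (h m ^ r * e * (h m ^ r)⁻¹)) * u⁻¹ := by group
      _ = ((h m ^ r * e * (h m ^ r)⁻¹) * u) * u⁻¹ := by rw [h4]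
      _ = h m ^ r * e * (h m ^ r)⁻¹ := by group
  field s hs hcomm := by
    have hsP := q.h.le hs
    have hconj : ∀ l, ∀ v ∈ zc (LS M), s * (h l * v * (h l)⁻¹) * s⁻¹ = h l * (s * v * s⁻¹) * (h l)⁻¹ := by
      intro l v hv
      have h1 := hcomm l v hv
      calc s * (h l * v * (h l)⁻¹) * s⁻¹ = (s * h l) * v * (s * h l)⁻¹ := by group
        _ = (h l * s) * v * (h l * s)⁻¹ := h1
        _ = h l * (s * v * s⁻¹) * (h l)⁻¹ := by group
    have hsg : ∀ l, Mv M s l l := by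
      intro l
      obtain ⟨m, hm⟩ := exists_Mv (M := M) hsP l
      by_cases hml : m = l
      · rwa [hml] at hm
      exfalso
      obtain ⟨z, hz, hz1⟩ := exists_Zf q (M := M) l 1
      have h1 : s * z * s⁻¹ ∈ Zf M m := (conj_Zf_S q hs hm).1 hz
      have h2 := Al_comm_Nc q hml (T.al l) (Zf_le m h1)
      have h3 := hconj l z (Zf_le_zc q l hz)
      have h4 : h l * (s * z * s⁻¹) * (h l)⁻¹ = s * z * s⁻¹ := by rw [h2]; group
      rw [h4] at h3
      have h5 : h l * z * (h l)⁻¹ = z := by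
        have h6 : s * (h l * z * (h l)⁻¹) = s * z := mul_right_cancel h3
        exact mul_left_cancel h6
      have h6 : z = 1 := T.fpf q hz (by
        calc h l * z = (h l * z * (h l)⁻¹) * h l := by group
          _ = z * h l := by rw [h5])
      rw [h6, Cv.e_one M] at hz1
      have := congrFun hz1 0
      simp at this
    obtain ⟨b, hb⟩ := acts_of_field q.hG S q.h q.hk (M := M) T.field hs hsg fun l v hv w hw hvj hwj h0 hc => by
      -- replace `v`, `w` by elements of `Zf M l`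
      obtain ⟨v', hv', hve⟩ := exists_Zf q (M := M) l (M.e v l 0)
      have hve' : M.e v' l = M.e v l := by
        rw [hve]
        exact NatPair.ext2 rfl h0.symm
      have hv'V := Zf_le_V l hv'
      have h1 : s * v' * s⁻¹ ∈ Zf M l := (conj_Zf_S q hs (hsg l)).1 hv'
      have h2 := hconj l v' (Zf_le_zc q l hv')
      have h3 := T.e_line hv'V (Zf_le_NL l hv').2
      have h4 := T.e_line (Zf_le_V l h1) (Zf_le_NL l h1).2
      have h5 : M.e (s * w * s⁻¹) l = M.e (s * (h l * v' * (h l)⁻¹) * s⁻¹) l :=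
        conj_congr (M := M) hsP (hsg l) hw ((T.al l).V hv'V) (by rw [h3, hve', hc])
      have h6 : M.e (s * v * s⁻¹) l = M.e (s * v' * s⁻¹) l :=
        conj_congr (M := M) hsP (hsg l) hv hv'V hve'.symm
      rw [h5, h2, h4, h6]
    exact mem_LS q.h.le hs hb
  ZE := Zf_le_zc q
  Zne := Zf_ne_bot q
  Znor l := mem_norm_of_le fun z hz => conj_Zf_Al q (T.al l) (by simp) hz
  Zfpf l z hz hc := T.fpf q hz hc
  Zcent l m hlm z hz := Al_comm_Nc q hlm (T.al m) (Zf_le l hz)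
  Zperm s hs l := by
    obtain ⟨m, hm⟩ := exists_Mv (M := M) (q.h.le hs) l
    exact ⟨m, fun v => conj_Zf_S q hs hm⟩
  trans l m := by
    obtain ⟨s, hs, h1⟩ := M.trans l m
    exact ⟨s, hs, fun v => conj_Zf_S q hs h1⟩
  fix z hz := by
    obtain ⟨d, hd, w, hw, he⟩ := exists_dw q (zc_S_le q hz)
    exact ⟨d, D_le_zc q hd, fun l => (T.al l).D hd, w, hw, he⟩

end Cfsg.Agent.Omega.IId.ThmCQ.Nsp

end

section


/-!
# THEOREM C with `D`, `q ≥ 4`, `V_P` any (nonsplit included): the statements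

`M : NatK F S P (zl S P) (cv S P) k`, `4 ≤ |F|`, `W_i := O₂(N_G(Zf M i))`:

* `o2_Zf_le_cent` : `W_i` centralises `Ω₁ Z(S^L)`;
* `o2_Zf_le_LS` : `W_i ≤ S^L`;
* `Nc_le_zc` : `Nc M l ≤ Ω₁ Z(W_i)`, `l ≠ i`;
* `Nc_le_zc_cent` : `Nc M l ≤ Ω₁ Z(O₂(C_G(Zf M i)))`, `l ≠ i`;
* `mem_Zf_iff_form` : `Zf M i = e(F)`;
* `exists_elt` : an `r`-element acting as `dg t` in the `l`-th factor, `t` of order `r`.
-/

set_option autoImplicit false
set_option linter.unusedSectionVars false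
set_option linter.unusedVariables false

namespace Cfsg.Agent.Omega.IId.ThmCQ.Nsp

open Subgroup Cfsg Cfsg.Agent.ZN Cfsg.Agent.Omega.IId Cfsg.Agent.Omega.ThmC.Four
open Cfsg.Agent.ZN.ChoiceSit hiding zc_le zc_le_zl
open Cfsg.Agent.ZN.ChoiceBase hiding mem_zc
open Cfsg.Agent.Omega.MinPar Cfsg.Agent.Omega.FrameFF Cfsg.Agent.Omega.FFThm
open Cfsg.Agent.MinSimple.VModule (le_normalizer_zl mem_zc zc_le zc_le_zl)
open Cfsg.Agent.Lib.SL2Mat
open Cfsg.Agent.Omega.NatPair (ap ap_mul ap_one ap_inv_ap ap_ap_inv exists_ap ap_add ap_inj ap_smul)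
open Cfsg.Agent.Omega.ThmC.FourOf (dg_pow)
open Cfsg.Agent.Omega.HOne (cv_le conj_mem_zl conj_mem_cv)
open Cfsg.Agent.Omega.IId.Cv (e_div eq_iff e_cv e_mul_cv)
open Cfsg.Agent.Omega.IId.Ns

universe u

/-! ### 2-groups -/

section gen

variable {G : Type u} [Group G] [Finite G]

/-- `O₂(N(Z)) ∩ C(Z) ≤ O₂(C(Z))` -/
theorem o2_norm_inf_cent_le (Z : Subgroup G) :
    o2 (normalizer (Z : Set G)) ⊓ centralizer (Z : Set G) ≤ o2 (centralizer (Z : Set G)) := by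
  refine MinSimple.VModule.le_o2 inf_le_right ((MinSimple.VModule.o2_isPGroup _).to_le inf_le_left) ?_
  intro g hg
  have h1 : g ∈ normalizer (Z : Set G) := centralizer_le_normalizer _ hg
  have h2 : g ∈ normalizer (centralizer (Z : Set G) : Set G) := by
    rw [mem_normalizer_iff_cj, cj_centralizer, cj_eq_of_mem_normalizer h1]
  rw [mem_normalizer_iff_cj, cj_inf, cj_eq_of_mem_normalizer (MinSimple.VModule.le_normalizer_o2 _ h1),
    cj_eq_of_mem_normalizer h2]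

/-- `O₂(C(Z)) ≤ O₂(N(Z))` -/
theorem o2_cent_le_o2_norm (Z : Subgroup G) : o2 (centralizer (Z : Set G)) ≤ o2 (normalizer (Z : Set G)) := by
  refine MinSimple.VModule.le_o2 ((MinSimple.VModule.o2_le _).trans (centralizer_le_normalizer _))
    (MinSimple.VModule.o2_isPGroup _) ?_
  intro g hg
  rw [mem_normalizer_iff_cj, ← ChoiceSit.o2_cj, cj_centralizer, cj_eq_of_mem_normalizer hg]

/-- `A ≤ Ω₁ Z(O₂(N(Z)))`, `A ≤ C(Z)` ==> `A ≤ Ω₁ Z(O₂(C(Z)))` -/
theorem zc_cent_of_norm {Z A : Subgroup G} (hA : A ≤ zc (o2 (normalizer (Z : Set G))))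
    (hAZ : A ≤ centralizer (Z : Set G)) : A ≤ zc (o2 (centralizer (Z : Set G))) := by
  intro a ha
  have h1 := mem_zc.1 (hA ha)
  exact mem_zc.2 ⟨o2_norm_inf_cent_le Z ⟨h1.1, hAZ ha⟩, fun x hx => h1.2.1 x (o2_cent_le_o2_norm Z hx), h1.2.2⟩

end gen

section main

variable {G : Type u} [Group G] [Finite G] {F : Type} [Field F] [Finite F] [CharP F 2] {S : Sylow 2 G}
  {P : Subgroup G} {k : ℕ} {M : NatK F (S : Subgroup G) P (zl (S : Subgroup G) P) (cv (S : Subgroup G) P) k}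
  (q : Sit F S P k)

include q

/-- **THEOREM C with `D`**, `q ≥ 4`: `O₂(N_G(Zf M i))` centralises `Ω₁ Z(S^L)`. -/
theorem o2_Zf_le_cent (i : Fin k) : o2 (normalizer (Zf M i : Set G)) ≤ centralizer (zc (LS M) : Set G) := by
  obtain ⟨t, p, h, T⟩ := exists_tor (M := M) q
  exact (T.dat q).main i

/-- `O₂(N_G(Zf M i)) ≤ S` -/
theorem o2_Zf_le_S (i : Fin k) : o2 (normalizer (Zf M i : Set G)) ≤ (S : Subgroup G) := by
  set E := zc (LS M) with hE
  have h1 := o2_Zf_le_cent q (M := M) i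
  have hlE : Zf M i ≤ E := Zf_le_zc q i
  have h2 : centralizer (E : Set G) ≤ normalizer (Zf M i : Set G) :=
    (centralizer_le hlE).trans (centralizer_le_normalizer _)
  have h3 : o2 (normalizer (Zf M i : Set G)) ≤ o2 (centralizer (E : Set G)) :=
    MinSimple.VModule.le_o2 h1 (MinSimple.VModule.o2_isPGroup _) (h2.trans (MinSimple.VModule.le_normalizer_o2 _))
  refine h3.trans (ThmCQ.le_sylow (MinSimple.VModule.o2_isPGroup _) ?_)
  have h4 : (S : Subgroup G) ≤ normalizer (E : Set G) :=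
    (S_le_normalizer_LS q.h.le).trans (MinSimple.VModule.normalizer_le_normalizer_zc _)
  refine h4.trans ?_
  intro g hg
  rw [mem_normalizer_iff_cj, ← ChoiceSit.o2_cj, cj_centralizer, cj_eq_of_mem_normalizer hg]

/-- elements of `S` centralising `Ω₁ Z(S^L)` are in `S^L` -/
theorem mem_LS_of_cent_zc {s : G} (hs : s ∈ (S : Subgroup G)) (hc : s ∈ centralizer (zc (LS M) : Set G)) :
    s ∈ LS M := by
  obtain ⟨t, p, h, T⟩ := exists_tor (M := M) q
  refine (T.dat q).field s hs fun l e he => ?_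
  have h1 : h l * e * (h l)⁻¹ ∈ zc (LS M) :=
    (mem_normalizer_iff.1 (MinSimple.VModule.normalizer_le_normalizer_zc _ (T.nor l)) e).1 he
  have h2 := mem_centralizer_iff.1 hc _ h1
  have h3 := mem_centralizer_iff.1 hc _ he
  calc s * h l * e * (s * h l)⁻¹ = s * (h l * e * (h l)⁻¹) * s⁻¹ := by group
    _ = h l * e * (h l)⁻¹ := by rw [← h2]; group
    _ = h l * (e * s) * s⁻¹ * (h l)⁻¹ := by group
    _ = h l * (s * e) * s⁻¹ * (h l)⁻¹ := by rw [h3]
    _ = _ := by group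

/-- `O₂(N_G(Zf M i)) ≤ S^L` -/
theorem o2_Zf_le_LS (i : Fin k) : o2 (normalizer (Zf M i : Set G)) ≤ LS M := fun _ hx =>
  mem_LS_of_cent_zc q (o2_Zf_le_S q i hx) (o2_Zf_le_cent q i hx)

/-- the elements of `S^L` fix the factors -/
theorem LS_le_Tc (i : Fin k) : LS M ≤ Tc M i := by
  intro s hs
  obtain ⟨-, hsP, A, hA⟩ := id hs
  exact ⟨⟨LS_le hs, hsP⟩, fun v hv => by rw [hA.1 v hv i, Ns.ap_eq_zero]⟩

theorem o2_Zf_le_cent_D (i : Fin k) : o2 (normalizer (Zf M i : Set G)) ≤ centralizer (cv (S : Subgroup G) P : Set G) :=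
  (o2_Zf_le_cent q i).trans (centralizer_le (D_le_zc q))

theorem o2_Zf_comm_LV (i : Fin k) {w v : G} (hw : w ∈ o2 (normalizer (Zf M i : Set G))) (hv : v ∈ LV M) :
    w * v = v * w := (mem_centralizer_iff.1 (o2_Zf_le_cent q i hw) v (LV_le_zc q hv)).symm

/-- `N_l` is generated by the conjugates of `Zf M l` under `Fc M l`. -/
theorem Nc_le_closure (l : Fin k) : Nc M l ≤ closure {y | ∃ g ∈ Fc M l, ∃ z ∈ Zf M l, y = g * z * g⁻¹} := by
  set K : Subgroup G := closure {y | ∃ g ∈ Fc M l, ∃ z ∈ Zf M l, y = g * z * g⁻¹} with hK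
  rw [Nc, closure_le]
  rintro _ ⟨x, hx, v, hv, rfl⟩
  obtain ⟨A, hA⟩ := exists_of_Fc hx
  by_cases h0 : M.e v l = 0
  · have h1 := fix_ker q.hG S q.h q.hk q.hF hA hv h0
    rw [h1, mul_inv_cancel]
    exact one_mem K
  · obtain ⟨z, hz, hze⟩ := exists_Zf q (M := M) l 1
    have hne : (![1, 0] : Fin 2 → F) ≠ 0 := fun h => by
      have := congrFun h 0
      simp at this
    obtain ⟨B, hB⟩ := exists_ap hne h0
    obtain ⟨g, hg⟩ := exists_Al M l B
    have hzV := Zf_le_V l hz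
    have h2 : M.e (g * z * g⁻¹) l = M.e v l := by rw [hg.same hzV, hze, hB]
    have hκV := hg.V hzV
    have h3 : M.e (v * (g * z * g⁻¹)⁻¹) l = 0 := by rw [e_div M hv hκV, Pi.sub_apply, h2, sub_self]
    have hdV : v * (g * z * g⁻¹)⁻¹ ∈ zl (S : Subgroup G) P := mul_mem hv (inv_mem hκV)
    have h4 := fix_ker q.hG S q.h q.hk q.hF hA hdV h3
    have h5 := comm_mul q hA.1 hdV hκV
    rw [inv_mul_cancel_right, h4, mul_inv_cancel, one_mul] at h5
    rw [h5]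
    refine mul_mem (subset_closure ⟨x * g, mul_mem hx hg.mem_Fc, z, hz, by group⟩)
      (inv_mem (subset_closure ⟨g, hg.mem_Fc, z, hz, rfl⟩))

/-- `O₂(N_G(Zf M i))` centralises `Nc M l`, `l ≠ i` -/
theorem Nc_le_cent {i l : Fin k} (hli : l ≠ i) :
    Nc M l ≤ centralizer (o2 (normalizer (Zf M i : Set G)) : Set G) := by
  refine (Nc_le_closure q l).trans ?_
  rw [closure_le]
  rintro _ ⟨g, hg, z, hz, rfl⟩
  rw [SetLike.mem_coe, mem_centralizer_iff]
  intro w hw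
  obtain ⟨B, hB⟩ := exists_of_Fc hg
  have hgN : g ∈ normalizer (Zf M i : Set G) := centralizer_le_normalizer _ (mem_centralizer_iff.2 fun y hy =>
    (Al_comm_Nc q (Ne.symm hli) hB (Zf_le i hy)).symm)
  have hgW := MinSimple.VModule.le_normalizer_o2 _ hgN
  have hw' : g⁻¹ * w * g ∈ o2 (normalizer (Zf M i : Set G)) := by
    have := (mem_normalizer_iff.1 (inv_mem hgW) w).1 hw
    rwa [inv_inv] at this
  have h2 := o2_Zf_comm_LV q i hw' (Zf_LV q hz)
  calc w * (g * z * g⁻¹) = g * ((g⁻¹ * w * g) * z) * g⁻¹ := by group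
    _ = g * (z * (g⁻¹ * w * g)) * g⁻¹ := by rw [h2]
    _ = g * z * g⁻¹ * w := by group

theorem Zf_isPGroup (i : Fin k) : IsPGroup 2 (Zf M i) :=
  S.isPGroup'.to_le ((Zf_le_V i).trans (V_le_S q))

theorem Nc_le_normalizer (i l : Fin k) : Nc M l ≤ centralizer (Zf M i : Set G) := by
  intro n hn
  rw [mem_centralizer_iff]
  exact fun z hz => V_comm q (Zf_le_V i hz) (Nc_le_zl l hn)

/-- **`Nc M l ≤ Ω₁ Z(O₂(N_G(Zf M i)))`, `l ≠ i`** -/
theorem Nc_le_zc {i l : Fin k} (hli : l ≠ i) : Nc M l ≤ zc (o2 (normalizer (Zf M i : Set G))) := by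
  have hch := MinSimple.Basic.char2_normalizer q.hG (Zf_isPGroup q i) (Zf_ne_bot q (M := M) i)
  intro n hn
  have h1 := Nc_le_cent q hli hn
  have h2 : n ∈ o2 (normalizer (Zf M i : Set G)) :=
    hch ⟨centralizer_le_normalizer _ (Nc_le_normalizer q i l hn), h1⟩
  exact mem_zc.2 ⟨h2, fun w hw => mem_centralizer_iff.1 h1 w hw, by
    rw [pow_two]; exact V_sq q (Nc_le_zl l hn)⟩

/-- **`Nc M l ≤ Ω₁ Z(O₂(C_G(Zf M i)))`, `l ≠ i`** -/
theorem Nc_le_zc_cent {i l : Fin k} (hli : l ≠ i) : Nc M l ≤ zc (o2 (centralizer (Zf M i : Set G))) :=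
  zc_cent_of_norm (Nc_le_zc q hli) (Nc_le_normalizer q i l)

theorem o2_cent_Zf_le_Tc (i : Fin k) : o2 (centralizer (Zf M i : Set G)) ≤ Tc M i :=
  (o2_cent_le_o2_norm _).trans ((o2_Zf_le_LS q i).trans (LS_le_Tc q i))

end main

/-! ### `Zf M i = e(F)` -/

section form

open Cfsg.Agent.Omega.HOne.NSMod Cfsg.Agent.Omega.HOne.NSSide Cfsg.Agent.Omega.HOne.NSPair

/-- the torus acts on `e(F)` -/
theorem torus_e {G : Type*} [Group G] {F : Type*} [Field F] {P V D N : Subgroup G} {π : G → Fin 2 → F}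
    {e f g : F → G} (r : Rig P V D π) (φ : Form P V D π e f g N) {x : G} {a : F} (ha : a ≠ 0)
    (hx : Is P V D π x (dg a ha)) (z : F) : x * e z * x⁻¹ = e (a⁻¹ * z) := by
  obtain ⟨y, hy⟩ := r.is_lift (lo ((1 : F) ^ 2))
  have h1 := φ.act 1 y hy (f z) (φ.fV z)
  rw [φ.fπ] at h1
  have h1' : y * f z * y⁻¹ = e z * g z * f z := by simpa using h1
  have h2 := r.is_mul (r.is_mul hx hy) (r.is_inv hx)
  have e1 : dg a ha * lo ((1 : F) ^ 2) * (dg a ha)⁻¹ = lo ((a⁻¹) ^ 2) := by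
    rw [mul_inv_eq_iff_eq_mul]
    apply ext_ent <;> simp [ent_mul]
    field_simp
  rw [e1] at h2
  have hw := r.Vn x hx.mem _ (φ.fV z)
  have h3 := φ.act a⁻¹ _ h2 _ hw
  have h4 : π (x * f z * x⁻¹) 0 = a * z := by
    rw [hx.act _ (φ.fV z), φ.fπ, ap_dg]; simp
  rw [h4] at h3
  have e2 : (a⁻¹) ^ 2 * (a * z) = a⁻¹ * z := by field_simp
  have e3 : a⁻¹ * (a * z) = z := by field_simp
  rw [e2, e3] at h3
  have h5 := hx.cen _ (φ.gD z)
  have h6 : x * (y * f z * y⁻¹) * x⁻¹ = (x * y * x⁻¹) * (x * f z * x⁻¹) * (x * y * x⁻¹)⁻¹ := by group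
  rw [h1', h3] at h6
  have h7 : x * (e z * g z * f z) * x⁻¹ = (x * e z * x⁻¹) * g z * (x * f z * x⁻¹) := by
    calc x * (e z * g z * f z) * x⁻¹ = x * e z * x⁻¹ * (x * g z) * x⁻¹ * (x * f z * x⁻¹) := by group
      _ = x * e z * x⁻¹ * (g z * x) * x⁻¹ * (x * f z * x⁻¹) := by rw [h5]
      _ = _ := by group
  rw [h7] at h6
  exact mul_right_cancel (mul_right_cancel h6)

variable {G : Type u} [Group G] [Finite G] {F : Type} [Field F] [Finite F] [CharP F 2] {S : Sylow 2 G}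
  {P : Subgroup G} {k : ℕ} {M : NatK F (S : Subgroup G) P (zl (S : Subgroup G) P) (cv (S : Subgroup G) P) k}
  (q : Sit F S P k)

include q

theorem mem_Zf_iff_form {i : Fin k} {e f g : F → G} {N : Subgroup G}
    (φ : Form (Lc M i) (Nc M i) (Uc M i) (Sd.natOver q.hG S q.h M (hω q) i).e e f g N) (z : G) :
    z ∈ Zf M i ↔ ∃ y, z = e y := by
  have r := Sd.rig_of q.hG S q.h M (hω q) i
  have hπ : ∀ v, (Sd.natOver q.hG S q.h M (hω q) i).e v = Sd.pc S M i v := fun v => rfl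
  have he0 : ∀ y, M.e (e y) i 1 = 0 := by
    intro y
    have h1 := congrFun (φ.eπ y) 0
    rw [hπ, Sd.pc_zero] at h1
    simpa using h1
  -- `e(F) ≤ Zf`
  have hle : ∀ y, e y ∈ Zf M i := by
    intro y
    obtain ⟨t, ht, ht1⟩ := exists_omega q.hF
    obtain ⟨x₀, hx₀⟩ := exists_Al M i (dg t ht)
    obtain ⟨x, hxE, hxx⟩ := Sd.exists_Ec q.hG S q.h M (hω q) hx₀.mem_Fc
    obtain ⟨C, hC⟩ := exists_of_Fc hxE.1
    have hCB : C = dg t ht := ap_inj fun z => by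
      obtain ⟨v, hv, hvi, -⟩ := Ns.exists_single (M := M) i z
      rw [← hvi, ← hC.same hv, hxx v hv, hx₀.same hv]
    have hx : Al M i x (dg t ht) := hC.of_eq hCB
    have hxL : x ∈ Lc M i := (le_sup_right : Ec M i ≤ Lc M i) hxE
    have h1 := Sd.is_of_acts q.hG S q.h M (hω q) hxL hx.2
    have e1 : wm (1 : F) one_ne_zero * dg t ht * (wm 1 one_ne_zero)⁻¹ = dg t⁻¹ (inv_ne_zero ht) := by
      rw [mul_inv_eq_iff_eq_mul]
      apply ext_ent <;> simp [ent_mul]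
    rw [e1] at h1
    have ht2 : t - 1 ≠ 0 := sub_ne_zero.2 ht1
    have h2 := torus_e r φ (inv_ne_zero ht) h1 (y / (t - 1))
    rw [inv_inv] at h2
    have h3 : x * e (y / (t - 1)) * x⁻¹ * (e (y / (t - 1)))⁻¹ = e y := by
      rw [h2]
      have h4 : t * (y / (t - 1)) = y + y / (t - 1) := by field_simp; ring
      rw [h4, φ.e_add, mul_inv_cancel_right]
    rw [← h3]
    exact mem_Zf_of hx (φ.eV _) (he0 _)
  refine ⟨fun hz => ?_, fun ⟨y, hy⟩ => hy ▸ hle y⟩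
  -- the coordinate
  obtain ⟨y, hy⟩ : ∃ y, y = Sd.pc S M i z 1 := ⟨_, rfl⟩
  refine ⟨y, Zf_inj q hz (hle y) ?_⟩
  have h1 : Sd.pc S M i z = Sd.pc S M i (e y) := by
    have h2 := φ.eπ y
    rw [hπ] at h2
    rw [h2]
    refine NatPair.ext2 ?_ ?_
    · rw [Sd.pc_zero, (Zf_le_NL i hz).2]; rfl
    · rw [← hy]; rfl
  rw [(Sd.pc_eq_iff S M).1 h1]

end form

/-! ### An `r`-element -/

section elt

variable {G : Type u} [Group G] [Finite G] {F : Type} [Field F] [Finite F] [CharP F 2] {S : Sylow 2 G}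
  {P : Subgroup G} {k : ℕ} {M : NatK F (S : Subgroup G) P (zl (S : Subgroup G) P) (cv (S : Subgroup G) P) k}

theorem exists_elt (q : Sit F S P k) (l : Fin k) : ∃ (r j : ℕ) (t : F) (ht : t ≠ 0) (x : G), r.Prime ∧ r ≠ 2 ∧ t ≠ 1 ∧
    t ^ r = 1 ∧ x ^ r ^ j = 1 ∧ Al M l x (dg t ht) := by
  obtain ⟨t, r, h, T⟩ := exists_tor (M := M) q
  have hr := T.prime
  obtain ⟨j, m, hm, ho⟩ := Nat.exists_eq_pow_mul_and_not_dvd (orderOf_pos (h l)).ne' r hr.ne_one
  refine ⟨r, j, t ^ m, pow_ne_zero m T.ne_zero, h l ^ m, hr, T.odd, ?_, ?_, ?_, ?_⟩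
  · intro h1
    have h2 : orderOf t ∣ m := orderOf_dvd_of_pow_eq_one h1
    have : Fact r.Prime := ⟨hr⟩
    rw [orderOf_eq_prime T.pow T.ne_one] at h2
    exact hm h2
  · rw [← pow_mul, mul_comm, pow_mul, T.pow, one_pow]
  · rw [← pow_mul, mul_comm, ← ho, pow_orderOf_eq_one]
  · have h1 := Al_pow (T.al l) m
    rwa [dg_pow] at h1

end elt

end Cfsg.Agent.Omega.IId.ThmCQ.Nsp

end
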